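import Cfsg.Agent.H65.StronglyEmbedded
import Cfsg.Agent.H70.TwoInvol
import Cfsg.Agent.H67.SECount
import Cfsg.Agent.H29.SEB.Main

/-!
Strongly embedded subgroups `H = (W ⋊ T) D` where the involutions lie in the cosets of an odd
normal subgroup `W` by a four-or-larger elementary group `T` on whose nontrivial cosets `H`
induces a semiregular group and `|T| - 1` is prime (helper64): setup and inheritance.
-/

set_option autoImplicit false
set_option linter.style.haveILetI false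
set_option linter.unusedSectionVars false

namespace H64.SEP

open Subgroup

universe u

variable {G : Type u} [Group G]

/-- `h` fixes every coset of `W` by an element of `T`. -/
def Triv (W T : Subgroup G) (h : G) : Prop := ∀ s ∈ T, h * s * h⁻¹ * s ∈ W

/-- The setting. -/
structure Setup (G : Type u) [Group G] (H W T : Subgroup G) : Prop where
  se : Cfsg.IsStronglyEmbedded H
  W_le : W ≤ H
  W_conj : ∀ h ∈ H, ∀ w ∈ W, h * w * h⁻¹ ∈ W
  W_odd : Odd (Nat.card W)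
  T_le : T ≤ H
  T_sq : ∀ s ∈ T, s * s = 1
  four_le : 4 ≤ Nat.card T
  prime : (Nat.card T - 1).Prime
  invol : ∀ i ∈ H, orderOf i = 2 → ∃ s ∈ T, i * s ∈ W
  act : ∀ h ∈ H, ∀ t ∈ T, t ≠ 1 → h * t * h⁻¹ * t ∈ W → Triv W T h
  odd_act : ∀ h ∈ H, Odd (orderOf h) → Triv W T h → h ∈ W
  two_comm : ∀ P : Subgroup G, P ≤ H → IsPGroup 2 P → ∀ x ∈ P, ∀ y ∈ P, x * y = y * x

/-- The conclusion. -/
def Good (H W T : Subgroup G) : Prop :=
  W ≤ H.normalCore ∧ ∀ h ∈ H, Triv W T h → h ∈ W ⊔ T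

namespace Setup

variable [Finite G] {H W T : Subgroup G} (S : Setup G H W T)
include S

theorem inv_self {s : G} (hs : s ∈ T) : s⁻¹ = s := inv_eq_of_mul_eq_one_right (S.T_sq s hs)

theorem comm {x y : G} (hx : x ∈ T) (hy : y ∈ T) : x * y = y * x := by
  have h := S.T_sq _ (mul_mem hx hy)
  calc x * y = (x * y)⁻¹ := (inv_eq_of_mul_eq_one_right h).symm
    _ = y * x := by rw [mul_inv_rev, S.inv_self hx, S.inv_self hy]

theorem odd_of_mem_W {w : G} (hw : w ∈ W) : Odd (orderOf w) :=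
  S.W_odd.of_dvd_nat (Subgroup.orderOf_dvd_natCard _ hw)

theorem eq_one_of_mem {x : G} (hxT : x ∈ T) (hxW : x ∈ W) : x = 1 := by
  have h2 : orderOf x ∣ 2 := orderOf_dvd_of_pow_eq_one (by rw [pow_two]; exact S.T_sq x hxT)
  exact orderOf_eq_one_iff.1 (Nat.eq_one_of_dvd_coprimes
    (Nat.coprime_two_left.2 (S.odd_of_mem_W hxW)) h2 dvd_rfl)

theorem eq_of_mul_mem {x y : G} (hx : x ∈ T) (hy : y ∈ T) (h : x * y ∈ W) : x = y := by
  have h1 := S.eq_one_of_mem (mul_mem hx hy) h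
  rw [eq_inv_of_mul_eq_one_left h1, S.inv_self hy]

theorem orderOf_two {s : G} (hs : s ∈ T) (h1 : s ≠ 1) : orderOf s = 2 :=
  orderOf_eq_prime (by rw [pow_two]; exact S.T_sq s hs) h1

theorem W_conj' {h w : G} (hh : h ∈ H) (hw : w ∈ W) : h⁻¹ * w * h ∈ W := by
  have := S.W_conj h⁻¹ (inv_mem hh) w hw
  rwa [inv_inv] at this

/-- The subgroup `W T`. -/
def WT : Subgroup G where
  carrier := {g | ∃ w ∈ W, ∃ s ∈ T, g = w * s}
  one_mem' := ⟨1, one_mem _, 1, one_mem _, (one_mul 1).symm⟩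
  mul_mem' := by
    rintro _ _ ⟨w, hw, s, hs, rfl⟩ ⟨v, hv, r, hr, rfl⟩
    exact ⟨w * (s * v * s⁻¹), mul_mem hw (S.W_conj s (S.T_le hs) v hv), s * r, mul_mem hs hr,
      by group⟩
  inv_mem' := by
    rintro _ ⟨w, hw, s, hs, rfl⟩
    exact ⟨s⁻¹ * w⁻¹ * s, S.W_conj' (S.T_le hs) (inv_mem hw), s⁻¹, inv_mem hs, by group⟩

theorem mem_WT {g : G} : g ∈ S.WT ↔ ∃ w ∈ W, ∃ s ∈ T, g = w * s := Iff.rfl

theorem sup_eq : W ⊔ T = S.WT := by
  refine le_antisymm (sup_le (fun w hw => ⟨w, hw, 1, one_mem _, (mul_one w).symm⟩)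
    (fun s hs => ⟨1, one_mem _, s, hs, (one_mul s).symm⟩)) ?_
  rintro _ ⟨w, hw, s, hs, rfl⟩
  exact mul_mem (mem_sup_left hw) (mem_sup_right hs)

theorem mem_sup {g : G} : g ∈ W ⊔ T ↔ ∃ w ∈ W, ∃ s ∈ T, g = w * s := by
  rw [S.sup_eq, mem_WT]

theorem sup_le_H : W ⊔ T ≤ H := sup_le S.W_le S.T_le

/-- Odd elements of `W T` lie in `W`. -/
theorem mem_W_of_odd {g : G} (hg : g ∈ W ⊔ T) (ho : Odd (orderOf g)) : g ∈ W := by
  obtain ⟨w, hw, s, hs, rfl⟩ := S.mem_sup.1 hg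
  have h2 : (w * s) * (w * s) ∈ W := by
    have h := mul_mem hw (S.W_conj s (S.T_le hs) w hw)
    rwa [show w * (s * w * s⁻¹) = w * s * (w * s⁻¹) by group, S.inv_self hs] at h
  obtain ⟨k, hk⟩ := ho
  have h3 : ((w * s) * (w * s)) ^ (k + 1) = w * s := by
    rw [← pow_two, ← pow_mul, show 2 * (k + 1) = orderOf (w * s) + 1 by omega, pow_succ,
      pow_orderOf_eq_one, one_mul]
  rw [← h3]
  exact pow_mem h2 _

/-- An involution of `H` is `W`-conjugate to an element of `T`. -/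
theorem exists_conj_T {i : G} (hiH : i ∈ H) (hi : orderOf i = 2) :
    ∃ s ∈ T, s ≠ 1 ∧ ∃ w ∈ W, i = w * s * w⁻¹ := by
  obtain ⟨s, hs, his⟩ := S.invol i hiH hi
  have hs1 : s ≠ 1 := fun e => by
    rw [e, mul_one] at his
    have := S.odd_of_mem_W his
    rw [hi] at this
    exact absurd this (by decide)
  have hiWT : i ∈ W ⊔ T := by
    have h := mul_mem (mem_sup_left his : i * s ∈ W ⊔ T) (mem_sup_right hs)
    rwa [mul_assoc, S.T_sq s hs, mul_one] at h
  obtain ⟨n, hn⟩ := isConj_iff.1 (H70.isConj_of_odd_prod (G := ↥(W ⊔ T))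
    (x := ⟨s, mem_sup_right hs⟩) (y := ⟨i, hiWT⟩)
    (by rw [Subgroup.orderOf_mk]; exact S.orderOf_two hs hs1)
    (by rw [Subgroup.orderOf_mk]; exact hi)
    (by
      rw [← Subgroup.orderOf_coe]
      have h := S.odd_of_mem_W his
      rwa [show i * s = s * (s * i) * s⁻¹ by
        rw [← mul_assoc s s, S.T_sq s hs, one_mul, S.inv_self hs],
        show orderOf (s * (s * i) * s⁻¹) = orderOf (s * i) from
          orderOf_injective (MulAut.conj s).toMonoidHom (MulAut.conj s).injective _] at h))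
  obtain ⟨w, hw, r, hr, hnwr⟩ := S.mem_sup.1 n.2
  refine ⟨s, hs, hs1, w, hw, ?_⟩
  have h : (n : G) * s * (n : G)⁻¹ = i := congrArg Subtype.val hn
  rw [← h, hnwr, mul_inv_rev, show w * r * s * (r⁻¹ * w⁻¹) = w * (r * s * r⁻¹) * w⁻¹ by group,
    S.comm hr hs, mul_inv_cancel_right]

theorem triv_one : Triv W T 1 := fun s hs => by
  rw [one_mul, inv_one, mul_one, S.T_sq s hs]; exact one_mem _

theorem triv_mul {g h : G} (hg : g ∈ H) (hgt : Triv W T g) (hht : Triv W T h) :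
    Triv W T (g * h) := by
  intro s hs
  have h1 := S.W_conj g hg _ (hht s hs)
  have h2 := mul_mem h1 (hgt s hs)
  have h4 : g * (h * s * h⁻¹ * s) * g⁻¹ * (g * s * g⁻¹ * s) =
      g * (h * s * h⁻¹) * (s * s) * g⁻¹ * s := by group
  rw [h4, S.T_sq s hs, mul_one] at h2
  rwa [show g * h * s * (g * h)⁻¹ * s = g * (h * s * h⁻¹) * g⁻¹ * s by group]

theorem triv_inv {g : G} (hg : g ∈ H) (hgt : Triv W T g) : Triv W T g⁻¹ := by
  intro s hs
  have h1 := S.W_conj' hg (inv_mem (hgt s hs))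
  have h2 := S.W_conj s (S.T_le hs) _ h1
  have h3 : g⁻¹ * (g * s * g⁻¹ * s)⁻¹ * g = g⁻¹ * s⁻¹ * g * s⁻¹ := by group
  rw [h3, S.inv_self hs] at h2
  have h4 : s * (g⁻¹ * s * g * s) * s = (s * g⁻¹ * s * g) * (s * s) := by group
  rw [h4, S.T_sq s hs, mul_one] at h2
  have h5 := inv_mem h2
  rw [mul_inv_rev, mul_inv_rev, mul_inv_rev, S.inv_self hs, inv_inv] at h5
  rwa [inv_inv, show g⁻¹ * s * g * s = g⁻¹ * (s * (g * s)) by group]

theorem triv_of_mem_sup {g : G} (hg : g ∈ W ⊔ T) : Triv W T g := by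
  obtain ⟨w, hw, r, hr, rfl⟩ := S.mem_sup.1 hg
  intro s hs
  have h1 : w * r * s * (w * r)⁻¹ * s = w * (r * s * r⁻¹) * w⁻¹ * s := by group
  rw [h1, S.comm hr hs, mul_inv_cancel_right]
  have h2 := mul_mem hw (S.W_conj s (S.T_le hs) _ (inv_mem hw))
  rwa [show w * (s * w⁻¹ * s⁻¹) = w * s * w⁻¹ * s⁻¹ by group, S.inv_self hs] at h2

/-- `Triv` only depends on the cosets. -/
theorem triv_conj {h w : G} (hh : h ∈ H) (hw : w ∈ W) (t : G) (ht : t ∈ T) :
    h * (w * t * w⁻¹) * h⁻¹ * (w * t * w⁻¹) ∈ W ↔ h * t * h⁻¹ * t ∈ W := by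
  -- `w t w⁻¹ = v t` with `v ∈ W`
  set v := w * t * w⁻¹ * t with hv
  have hvW : v ∈ W := by
    have h2 := mul_mem hw (S.W_conj t (S.T_le ht) _ (inv_mem hw))
    rwa [show w * (t * w⁻¹ * t⁻¹) = w * t * w⁻¹ * t⁻¹ by group, S.inv_self ht] at h2
  have hwt : w * t * w⁻¹ = v * t := by
    rw [hv, mul_assoc (w * t * w⁻¹), S.T_sq t ht, mul_one]
  rw [hwt]
  have hc : h * (v * t) * h⁻¹ * (v * t) =
      (h * v * h⁻¹) * ((h * t * h⁻¹ * t) * (t⁻¹ * v * t)) := by group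
  rw [hc, Subgroup.mul_mem_cancel_left _ (S.W_conj h hh v hvW),
    Subgroup.mul_mem_cancel_right _ (S.W_conj' (S.T_le ht) hvW)]

/-- Restriction to a subgroup that contains a `W`-conjugate of `T`. -/
theorem restrict {M : Subgroup G} (hM : ¬ M ≤ H) {w : G} (hw : w ∈ W)
    (hwT : ∀ s ∈ T, w * s * w⁻¹ ∈ M) :
    Setup M (H.subgroupOf M) (W.subgroupOf M)
      ((T.map (MulAut.conj w).toMonoidHom).subgroupOf M) := by
  classical
  haveI : Fact (Nat.Prime 2) := ⟨Nat.prime_two⟩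
  set T' := T.map (MulAut.conj w).toMonoidHom with hT'
  have hT'M : T' ≤ M := by rintro _ ⟨s, hs, rfl⟩; exact hwT s hs
  have hwH := S.W_le hw
  have hT'H : T' ≤ H := by
    rintro _ ⟨s, hs, rfl⟩; exact mul_mem (mul_mem hwH (S.T_le hs)) (inv_mem hwH)
  have hcard : Nat.card (T'.subgroupOf M) = Nat.card T := by
    rw [Nat.card_congr (Subgroup.subgroupOfEquivOfLe hT'M).toEquiv,
      Subgroup.card_map_of_injective (MulAut.conj w).injective]
  obtain ⟨t, ht, ht1⟩ : ∃ t ∈ T, t ≠ 1 := by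
    refine T.ne_bot_iff_exists_ne_one.1 (fun h => ?_) |>.elim fun x hx =>
      ⟨x, x.2, fun e => hx (Subtype.ext e)⟩
    have := S.four_le
    rw [h, Subgroup.card_bot] at this
    omega
  have htr : ∀ {h : M}, (h : G) ∈ H →
      (Triv (W.subgroupOf M) (T'.subgroupOf M) h ↔ Triv W T (h : G)) := by
    intro h hh
    constructor
    · intro H1 s hs
      exact (S.triv_conj hh hw s hs).1 (H1 ⟨w * s * w⁻¹, hwT s hs⟩ ⟨s, hs, rfl⟩)
    · rintro H1 ⟨_, _⟩ ⟨s, hs, rfl⟩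
      exact (S.triv_conj hh hw s hs).2 (H1 s hs)
  refine
    { se := ?_
      W_le := fun x hx => S.W_le hx
      W_conj := fun h hh x hx => S.W_conj _ hh _ hx
      W_odd := S.W_odd.of_dvd_nat
        (Subgroup.card_comap_dvd_of_injective _ _ (Subgroup.subtype_injective _))
      T_le := fun x hx => hT'H hx
      T_sq := ?_
      four_le := hcard ▸ S.four_le
      prime := hcard ▸ S.prime
      invol := ?_
      act := ?_
      odd_act := ?_
      two_comm := ?_ }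
  · have hne : H.subgroupOf M ≠ ⊤ := fun h => hM fun x hx =>
      (show (⟨x, hx⟩ : M) ∈ H.subgroupOf M from h ▸ Subgroup.mem_top _)
    have heven : Even (Nat.card (H.subgroupOf M)) := by
      refine H65.even_card_of_mem (t := (⟨w * t * w⁻¹, hwT t ht⟩ : M))
        (hT'H ⟨t, ht, rfl⟩) ?_
      rw [Subgroup.orderOf_mk]
      exact H67.invol_conj (S.orderOf_two ht ht1) w
    refine (H65.se_iff hne heven).2 fun x g hx hxH hg => ?_
    exact H65.se_conj_mem S.se (t := (x : G)) (g := (g : G))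
      ((Subgroup.orderOf_coe x).trans hx) hxH hg
  · rintro ⟨_, _⟩ ⟨s, hs, rfl⟩
    apply Subtype.ext
    show w * s * w⁻¹ * (w * s * w⁻¹) = 1
    rw [show w * s * w⁻¹ * (w * s * w⁻¹) = w * (s * s) * w⁻¹ by group, S.T_sq s hs, mul_one,
      mul_inv_cancel]
  · intro i hi hi2
    obtain ⟨s, hs, his⟩ := S.invol (i : G) hi ((Subgroup.orderOf_coe i).trans hi2)
    refine ⟨⟨w * s * w⁻¹, hwT s hs⟩, ⟨s, hs, rfl⟩, ?_⟩
    show (i : G) * (w * s * w⁻¹) ∈ W
    have h2 := mul_mem (mul_mem his (S.W_conj' (S.T_le hs) hw)) (inv_mem hw)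
    rwa [show (i : G) * s * (s⁻¹ * w * s) * w⁻¹ = (i : G) * (w * s * w⁻¹) by group] at h2
  · rintro h hh ⟨_, _⟩ ⟨s, hs, rfl⟩ hs1 hmem
    refine (htr hh).2 (S.act _ hh s hs (fun e => hs1 ?_) ((S.triv_conj hh hw s hs).1 hmem))
    apply Subtype.ext
    show w * s * w⁻¹ = 1
    rw [e, mul_one, mul_inv_cancel]
  · intro h hh ho htv
    exact S.odd_act _ hh ((Subgroup.orderOf_coe h).symm ▸ ho) ((htr hh).1 htv)
  · intro P hP hP2 x hx y hy
    apply Subtype.ext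
    refine S.two_comm (P.map M.subtype) ?_ (hP2.map M.subtype) _ ⟨x, hx, rfl⟩ _ ⟨y, hy, rfl⟩
    rintro _ ⟨z, hz, rfl⟩
    exact hP hz

end Setup

end H64.SEP
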