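import Cfsg.Agent.H20.SecondMainApps
import Cfsg.Agent.H20.Knorr
import Cfsg.Agent.H12.Linear
import Cfsg.Agent.H12.Induction

/-!
Values on `t W` of an irreducible character when the centraliser of the involution `t` is
`W × T` (helper64): the second main theorem.
-/

set_option autoImplicit false
set_option linter.style.haveILetI false
set_option linter.unusedSectionVars false

open Cfsg
open scoped ComplexConjugate

namespace H64.SEP

universe u

variable {G : Type u} [Group G] [Fintype G]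

/-- The hypotheses on the centraliser of `t`. -/
structure CentData (W T : Subgroup G) (t : G) : Prop where
  W_le : W ≤ Subgroup.centralizer ({t} : Set G)
  T_le : T ≤ Subgroup.centralizer ({t} : Set G)
  t_mem : t ∈ T
  t_two : orderOf t = 2
  comm : ∀ w ∈ W, ∀ s ∈ T, s * w = w * s
  T_comm : ∀ s ∈ T, ∀ r ∈ T, s * r = r * s
  T_sq : ∀ s ∈ T, s * s = 1
  W_odd : Odd (Nat.card W)
  decomp : ∀ c ∈ Subgroup.centralizer ({t} : Set G), ∃ w ∈ W, ∃ s ∈ T, c = w * s

namespace CentData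

variable {W T : Subgroup G} {t : G} (Q : CentData W T t)
include Q

theorem eq_one_of_pow {s : G} (hs : s ∈ T) {n : ℕ} (hn : Odd n) (h : s ^ n = 1) : s = 1 := by
  obtain ⟨k, hk⟩ := hn
  rw [hk, pow_succ, pow_mul, pow_two, Q.T_sq s hs, one_pow, one_mul] at h
  exact h

theorem unique {w w' s s' : G} (hw : w ∈ W) (hw' : w' ∈ W) (hs : s ∈ T) (hs' : s' ∈ T)
    (h : w * s = w' * s') : w = w' ∧ s = s' := by
  have h1 : w'⁻¹ * w = s' * s⁻¹ := by
    rw [eq_mul_inv_iff_mul_eq, mul_assoc, h, inv_mul_cancel_left]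
  have h2 : s' * s⁻¹ = 1 := Q.eq_one_of_pow (mul_mem hs' (inv_mem hs)) Q.W_odd (by
    rw [← h1]
    exact congrArg Subtype.val (pow_card_eq_one' (x := (⟨w'⁻¹ * w, mul_mem (inv_mem hw') hw⟩ : W))))
  refine ⟨?_, (mul_inv_eq_one.1 h2).symm⟩
  rw [h2, inv_mul_eq_one] at h1
  exact h1.symm

/-- Elements of the centraliser of order dividing `|W|` lie in `W`. -/
theorem mem_W_of_pow {c : G} (hc : c ∈ Subgroup.centralizer ({t} : Set G))
    (h : c ^ Nat.card W = 1) : c ∈ W := by
  obtain ⟨w, hw, s, hs, rfl⟩ := Q.decomp c hc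
  have hcom : Commute w s := (Q.comm w hw s hs).symm
  have hw1 : w ^ Nat.card W = 1 := congrArg Subtype.val (pow_card_eq_one' (x := (⟨w, hw⟩ : W)))
  rw [hcom.mul_pow, hw1, one_mul] at h
  rwa [Q.eq_one_of_pow hs Q.W_odd h, mul_one]

variable [Fintype (Subgroup.centralizer ({t} : Set G))] [Fintype W] [Fintype T]

/-- The restriction to `W` of an irreducible character of the centraliser is irreducible. -/
theorem isIrr_res (ξ : IrrCharacter (Subgroup.centralizer ({t} : Set G))) :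
    IsIrrCharacter W (fun w : W => (ξ : Subgroup.centralizer ({t} : Set G) → ℂ) ⟨w, Q.W_le w.2⟩) := by
  classical
  have hch : IsCharacter W (fun w : W => (ξ : Subgroup.centralizer ({t} : Set G) → ℂ) ⟨w, Q.W_le w.2⟩) :=
    H12.IsCharacter.comp (H12.isCharacter_irr ξ) (Subgroup.inclusion Q.W_le)
  refine H12.isIrrCharacter_of_classInner_self_eq_one hch ?_
  obtain ⟨n, ρ, hρ, hξ⟩ := ξ.2
  haveI := hρ
  have hval : ∀ (w : W) (s : T), ‖(ξ : Subgroup.centralizer ({t} : Set G) → ℂ) (⟨w, Q.W_le w.2⟩ * ⟨s, Q.T_le s.2⟩)‖ =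
      ‖(ξ : Subgroup.centralizer ({t} : Set G) → ℂ) ⟨w, Q.W_le w.2⟩‖ := by
    intro w s
    obtain ⟨c, hc⟩ := H12.exists_scalar_of_commute ρ (ρ ⟨s, Q.T_le s.2⟩) fun h => by
      rw [← map_mul, ← map_mul]
      congr 1
      obtain ⟨v, hv, r, hr, hh⟩ := Q.decomp h h.2
      apply Subtype.ext
      show (s : G) * (h : G) = (h : G) * (s : G)
      rw [hh, ← mul_assoc, Q.comm v hv s s.2, mul_assoc, Q.T_comm s s.2 r hr, mul_assoc]
    have hc2 : c * c = 1 ∨ (n : ℕ) = 0 := by
      by_cases hn : n = 0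
      · exact Or.inr hn
      left
      have h1 : (ρ ⟨s, Q.T_le s.2⟩) * (ρ ⟨s, Q.T_le s.2⟩) = 1 := by
        rw [← map_mul, show (⟨s, Q.T_le s.2⟩ : Subgroup.centralizer ({t} : Set G)) *
          ⟨s, Q.T_le s.2⟩ = 1 from Subtype.ext (Q.T_sq s s.2), map_one]
      rw [hc, smul_mul_smul_comm, one_mul] at h1
      have h2 := congrArg (fun f : Module.End ℂ (Fin n → ℂ) =>
        f (fun _ => 1) ⟨0, Nat.pos_of_ne_zero hn⟩) h1
      simpa using h2
    rw [← hξ]
    show ‖LinearMap.trace ℂ _ (ρ (_ * _))‖ = ‖LinearMap.trace ℂ _ (ρ _)‖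
    rw [map_mul, hc, mul_smul_comm, mul_one, map_smul, smul_eq_mul, norm_mul]
    rcases hc2 with h | rfl
    · rcases mul_self_eq_one_iff.1 h with rfl | rfl <;> simp
    · rw [Subsingleton.elim (ρ ⟨w, Q.W_le w.2⟩) 0, map_zero, norm_zero, mul_zero]
  -- the norm on `C`
  have h := H12.classInner_irr_self ξ
  rw [H12.classInner_def] at h ⊢
  let e : W × T ≃ Subgroup.centralizer ({t} : Set G) :=
    Equiv.ofBijective (fun x => ⟨x.1, Q.W_le x.1.2⟩ * ⟨x.2, Q.T_le x.2.2⟩) ⟨fun x y hxy => by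
      obtain ⟨h1, h2⟩ := Q.unique x.1.2 y.1.2 x.2.2 y.2.2 (congrArg Subtype.val hxy)
      exact Prod.ext (Subtype.ext h1) (Subtype.ext h2), fun c => by
      obtain ⟨w, hw, s, hs, hc⟩ := Q.decomp c c.2
      exact ⟨(⟨w, hw⟩, ⟨s, hs⟩), Subtype.ext hc.symm⟩⟩
  have hcard : Nat.card (Subgroup.centralizer ({t} : Set G)) = Nat.card W * Nat.card T := by
    rw [← Nat.card_congr e, Nat.card_prod]
  have hsum : ∑ c : Subgroup.centralizer ({t} : Set G), (ξ : Subgroup.centralizer ({t} : Set G) → ℂ) c * conj ((ξ : Subgroup.centralizer ({t} : Set G) → ℂ) c) =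
      (Nat.card T : ℂ) * ∑ w : W, (ξ : Subgroup.centralizer ({t} : Set G) → ℂ) ⟨w, Q.W_le w.2⟩ *
        conj ((ξ : Subgroup.centralizer ({t} : Set G) → ℂ) ⟨w, Q.W_le w.2⟩) := by
    rw [← e.sum_comp (fun c => (ξ : Subgroup.centralizer ({t} : Set G) → ℂ) c * conj ((ξ : Subgroup.centralizer ({t} : Set G) → ℂ) c)), Fintype.sum_prod_type,
      Finset.mul_sum]
    refine Finset.sum_congr rfl fun w _ => ?_
    rw [Finset.sum_congr rfl (g := fun _ => (ξ : Subgroup.centralizer ({t} : Set G) → ℂ) ⟨w, Q.W_le w.2⟩ *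
        conj ((ξ : Subgroup.centralizer ({t} : Set G) → ℂ) ⟨w, Q.W_le w.2⟩)) fun s _ => by
      show (ξ : Subgroup.centralizer ({t} : Set G) → ℂ) (⟨w, Q.W_le w.2⟩ * ⟨s, Q.T_le s.2⟩) *
        conj ((ξ : Subgroup.centralizer ({t} : Set G) → ℂ) (⟨w, Q.W_le w.2⟩ * ⟨s, Q.T_le s.2⟩)) = _
      rw [Complex.mul_conj', Complex.mul_conj', hval],
      Finset.sum_const, Finset.card_univ, nsmul_eq_mul, Nat.card_eq_fintype_card]
  rw [hsum, hcard] at h
  rw [← h]
  have hW : (Nat.card W : ℂ) ≠ 0 := by exact_mod_cast Nat.card_pos.ne'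
  have hT : (Nat.card T : ℂ) ≠ 0 := by exact_mod_cast Nat.card_pos.ne'
  push_cast
  field_simp

/-- The second main theorem at `t`: either `A` is orthogonal to `μ` on `t W`, or it is
proportional to it. -/
theorem dichotomy (μ : W →* ℂˣ) (hfus : ∀ a b : W, IsConj (a : G) (b : G) → μ a = μ b)
    (A : IrrCharacter G) :
    ∑ w : W, (A : G → ℂ) (t * w) * conj (μ w : ℂ) = 0 ∨
      ∀ w : W, (A : G → ℂ) (t * w) = (μ w : ℂ) * (A : G → ℂ) t := by
  classical
  set C := Subgroup.centralizer ({t} : Set G) with hC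
  obtain ⟨M, hM⟩ := H20.exists_isPModular Nat.prime_two
  haveI := H20.isPrime_of_modular hM
  set θ : C → ℂ := fun c => (A : G → ℂ) (t * (c : G)) with hθdef
  have hθ : IsClassFunction C θ := H20.isClassFunction_shift (H12.irr_isClassFunction A) t
  set B := blockOf M (A : G → ℂ) with hB
  -- constituents in blocks inducing the block of `A`
  let P : IrrCharacter C → Prop := fun ξ => IsInducedBlock M C (blockOf M (ξ : C → ℂ)) B
  have hW1 : ∀ w : W, ¬ 2 ∣ orderOf (⟨w, Q.W_le w.2⟩ : C) := fun w => by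
    rw [Subgroup.orderOf_mk, Subgroup.orderOf_coe]
    exact fun h2 => (Nat.not_even_iff_odd.2 Q.W_odd)
      (even_iff_two_dvd.2 (h2.trans (orderOf_dvd_natCard w)))
  have hsplit : ∀ w : W, θ ⟨w, Q.W_le w.2⟩ =
      ∑ ξ : IrrCharacter C,
        if P ξ then classInner θ (ξ : C → ℂ) * (ξ : C → ℂ) ⟨w, Q.W_le w.2⟩ else 0 := by
    intro w
    set θ' : C → ℂ := ∑ ξ : IrrCharacter C,
      (if P ξ then 0 else classInner θ (ξ : C → ℂ)) • (ξ : C → ℂ) with hθ'
    have hθ'cl : IsClassFunction C θ' :=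
      H12.IsClassFunction.sum _ fun ξ _ =>
        H12.IsClassFunction.smul (H12.irr_isClassFunction ξ) _
    have h0 : θ' ⟨w, Q.W_le w.2⟩ = 0 := by
      refine H20.eq_zero_of_blockPart M hθ'cl fun b hb => ?_
      rw [H20.blockPart_eq_sum]
      by_cases hind : IsInducedBlock M C b B
      · refine Finset.sum_eq_zero fun ξ _ => ?_
        split_ifs with hξ
        · rw [hθ', H12.classInner_sum_smul_irr,
            if_pos (show P ξ by rw [H20.block_eq_blockOf hb hξ] at hind; exact hind), zero_mul]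
        · rfl
      · have := H20.blockPart_shift_eq_zero hM (x := t) ⟨1, by rw [pow_one]; exact Q.t_two⟩
          (H20.isPBlock_blockOf A) (H20.mem_blockOf_self A) hb hind ⟨w, Q.W_le w.2⟩ (hW1 w)
        rw [H20.blockPart_eq_sum] at this
        refine Eq.trans (Finset.sum_congr rfl fun ξ _ => ?_) this
        split_ifs with hξ
        · rw [hθ', H12.classInner_sum_smul_irr,
            if_neg (show ¬ P ξ by rw [H20.block_eq_blockOf hb hξ] at hind; exact hind)]
        · rfl
    rw [H12.classFunction_apply_eq_sum hθ, ← sub_eq_zero, ← Finset.sum_sub_distrib]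
    refine Eq.trans ?_ h0
    rw [hθ', Finset.sum_apply]
    refine Finset.sum_congr rfl fun ξ _ => ?_
    split_ifs <;> simp
  -- restriction to `W`
  let res : IrrCharacter C → IrrCharacter W := fun ξ => ⟨_, Q.isIrr_res ξ⟩
  -- two such constituents both or neither restrict to `μ`
  set S : IrrCharacter C → ℂ := fun ξ =>
    ∑ w : W, conj (μ w : ℂ) * ((ξ : C → ℂ) ⟨w, Q.W_le w.2⟩ / (ξ : C → ℂ) 1) with hS
  have hWne : (Nat.card W : ℂ) ≠ 0 := by exact_mod_cast Nat.card_pos.ne'
  have hSinner : ∀ ξ : IrrCharacter C, S ξ * (ξ : C → ℂ) 1 =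
      (Nat.card W : ℂ) * classInner (res ξ : W → ℂ) (H12.linIrr μ : W → ℂ) := by
    intro ξ
    rw [hS, H12.classInner_def, ← mul_assoc, mul_inv_cancel₀ hWne, one_mul, Finset.sum_mul]
    refine Finset.sum_congr rfl fun w _ => ?_
    rw [mul_assoc, div_mul_cancel₀ _ (H12.irr_apply_one_ne_zero ξ), mul_comm]
    rfl
  have hS1 : ∀ ξ : IrrCharacter C, res ξ = H12.linIrr μ → S ξ = (Nat.card W : ℂ) := by
    intro ξ h
    have h1 : (ξ : C → ℂ) 1 = 1 := by
      have : (res ξ : W → ℂ) 1 = 1 := by rw [h, H12.linIrr_apply, map_one]; rfl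
      exact this
    have h2 := hSinner ξ
    rwa [h, H12.classInner_irr_self, h1, mul_one, mul_one] at h2
  have hS0 : ∀ ξ : IrrCharacter C, res ξ ≠ H12.linIrr μ → S ξ = 0 := by
    intro ξ h
    have h2 := hSinner ξ
    rw [H12.classInner_irr_ne h, mul_zero, mul_eq_zero] at h2
    exact h2.resolve_right (H12.irr_apply_one_ne_zero ξ)
  let st : Setoid W :=
    { r := fun a b => IsConj (a : G) (b : G)
      iseqv := ⟨fun _ => IsConj.refl _, IsConj.symm, IsConj.trans⟩ }
  haveI : Fintype (Quotient st) := Fintype.ofFinite _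
  have hScc : ∀ ξ : IrrCharacter C, ∑ q : Quotient st, conj (μ q.out : ℂ) *
      inducedCentralChar C (ξ : C → ℂ) (q.out : G) = S ξ := by
    intro ξ
    rw [hS]
    refine Eq.trans ?_ (Finset.sum_fiberwise Finset.univ (fun w : W => (Quotient.mk st w))
      (fun w : W => conj (μ w : ℂ) * ((ξ : C → ℂ) ⟨w, Q.W_le w.2⟩ / (ξ : C → ℂ) 1)))
    refine Finset.sum_congr rfl fun q _ => ?_
    rw [inducedCentralChar, finsum_mem_eq_toFinset_sum, Finset.mul_sum]
    have hmem : ∀ c : C, IsConj (q.out : G) (c : G) → (c : G) ∈ W := fun c hc => by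
      refine Q.mem_W_of_pow c.2 ?_
      obtain ⟨g, hg⟩ := isConj_iff.1 hc
      rw [← hg, conj_pow, show ((q.out : G)) ^ Nat.card W = 1 from
        congrArg Subtype.val (pow_card_eq_one' (x := q.out)), mul_one, mul_inv_cancel]
    refine Finset.sum_bij' (fun c hc => (⟨c, hmem c (by simpa using hc)⟩ : W))
      (fun w _ => (⟨w, Q.W_le w.2⟩ : C)) (fun c hc => ?_) (fun w hw => ?_) (fun c _ => rfl)
      (fun w _ => rfl) (fun c hc => ?_)
    · rw [Finset.mem_filter]
      refine ⟨Finset.mem_univ _, ?_⟩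
      refine Eq.trans ?_ (Quotient.out_eq q)
      exact Quotient.sound (show IsConj ((c : G)) (q.out : G) from
        (show IsConj (q.out : G) (c : G) by simpa using hc).symm)
    · rw [Finset.mem_filter] at hw
      have h := Quotient.exact (hw.2.trans (Quotient.out_eq q).symm)
      simpa using (IsConj.symm h)
    · rw [hfus q.out ⟨c, hmem c (by simpa using hc)⟩ (by simpa using hc)]
  have hsame : ∀ ξ η : IrrCharacter C, P ξ → P η → res ξ = H12.linIrr μ → res η = H12.linIrr μ := by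
    intro ξ η hξ hη h
    by_contra hne
    have hid : MemLocalIdeal M (S ξ - S η) := by
      rw [← hScc ξ, ← hScc η, ← Finset.sum_sub_distrib]
      refine Finset.sum_induction _ (MemLocalIdeal M) (fun _ _ => H20.memIdeal_add)
        H20.memIdeal_zero fun q _ => ?_
      rw [← mul_sub]
      refine H20.memIdeal_mul ?_ ?_
      · refine H20.memRing_of_pow_eq_one (n := Nat.card W) Nat.card_pos ?_
        rw [← map_pow, ← Units.val_pow_eq_pow_val, ← map_pow, pow_card_eq_one', map_one,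
          Units.val_one, map_one]
      · have h1 := hξ.2.2 ξ (H20.mem_blockOf_self ξ) A (H20.mem_blockOf_self A) (q.out : G)
        have h2 := hη.2.2 η (H20.mem_blockOf_self η) A (H20.mem_blockOf_self A) (q.out : G)
        have h3 := H20.memIdeal_add h1 (H20.memIdeal_mul
          (H20.memRing_neg (H20.memRing_of_isIntegral isIntegral_one)) h2)
        rwa [neg_one_mul, ← sub_eq_add_neg, sub_sub_sub_cancel_right] at h3
    rw [hS1 ξ h, hS0 η hne, sub_zero, H20.natCast_memIdeal_iff hM] at hid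
    exact (Nat.not_even_iff_odd.2 Q.W_odd) (even_iff_two_dvd.2 hid)
  by_cases hex : ∃ ξ, P ξ ∧ res ξ = H12.linIrr μ
  · right
    obtain ⟨ξ₀, hξ₀, hres₀⟩ := hex
    have hval : ∀ w : W, θ ⟨w, Q.W_le w.2⟩ =
        (μ w : ℂ) * ∑ ξ : IrrCharacter C, if P ξ then classInner θ (ξ : C → ℂ) else 0 := by
      intro w
      rw [hsplit w, Finset.mul_sum]
      refine Finset.sum_congr rfl fun ξ _ => ?_
      split_ifs with hξ
      · have : (res ξ : W → ℂ) w = (μ w : ℂ) := by
          rw [hsame ξ₀ ξ hξ₀ hξ hres₀]; rfl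
        rw [show (ξ : C → ℂ) ⟨w, Q.W_le w.2⟩ = (μ w : ℂ) from this, mul_comm]
      · rw [mul_zero]
    intro w
    have h1 : θ ⟨((1 : W) : G), Q.W_le (1 : W).2⟩ = (A : G → ℂ) t := by
      rw [hθdef]; simp
    show θ ⟨w, Q.W_le w.2⟩ = _
    rw [← h1, hval w, hval 1, map_one, Units.val_one, one_mul]
  · left
    show ∑ w : W, θ ⟨w, Q.W_le w.2⟩ * conj (μ w : ℂ) = 0
    simp only [hsplit, Finset.sum_mul]
    rw [Finset.sum_comm]
    refine Finset.sum_eq_zero fun ξ _ => ?_
    by_cases hξ : P ξ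
    · simp only [if_pos hξ, mul_assoc, ← Finset.mul_sum]
      refine mul_eq_zero_of_right _ ?_
      have h0 := H12.classInner_irr_ne (χ := res ξ) (ψ := H12.linIrr μ) fun e => hex ⟨ξ, hξ, e⟩
      rw [H12.classInner_def, mul_eq_zero] at h0
      exact h0.resolve_left (inv_ne_zero hWne)
    · simp [if_neg hξ]

end CentData

end H64.SEP
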