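import Cfsg.Agent.H64.SEP.Local
import Cfsg.Agent.H1.Hall
import Cfsg.Agent.H16.OddOrder

/-!
`T` centralises `W` in the minimal situation (helper64).
-/

set_option autoImplicit false
set_option linter.style.haveILetI false
set_option linter.unusedSectionVars false

namespace H64.SEP

open Subgroup

universe u

variable {G : Type u} [Group G] [Finite G] {H W T : Subgroup G} {z : G}

namespace Setup

variable (S : Setup G H W T)
include S

theorem card_sup : Nat.card ↥(W ⊔ T) = Nat.card W * Nat.card T := by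
  rw [← Nat.card_prod]
  refine (Nat.card_congr (Equiv.ofBijective
    (fun x : W × T => (⟨(x.1 : G) * x.2, S.mem_sup.2 ⟨_, x.1.2, _, x.2.2, rfl⟩⟩ : ↥(W ⊔ T)))
    ⟨?_, ?_⟩)).symm
  · rintro ⟨a, b⟩ ⟨c, d⟩ h
    have h' : (a : G) * b = c * d := congrArg Subtype.val h
    have h1 : (b : G) * d ∈ W := by
      have : (a : G)⁻¹ * c = b * (d : G)⁻¹ := by
        rw [eq_mul_inv_iff_mul_eq, mul_assoc, ← h', inv_mul_cancel_left]
      rw [← S.inv_self d.2, ← this]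
      exact mul_mem (inv_mem a.2) c.2
    have hbd : (b : G) = d := S.eq_of_mul_mem b.2 d.2 h1
    exact Prod.ext (Subtype.ext (by rw [hbd] at h'; exact mul_right_cancel h')) (Subtype.ext hbd)
  · rintro ⟨g, hg⟩
    obtain ⟨w, hw, s, hs, rfl⟩ := S.mem_sup.1 hg
    exact ⟨(⟨w, hw⟩, ⟨s, hs⟩), rfl⟩

theorem sylowIn_T : H82.SylowIn 2 T (W ⊔ T) := by
  haveI : Fact (Nat.Prime 2) := ⟨Nat.prime_two⟩
  refine ⟨le_sup_right, fun x => ⟨1, Subtype.ext (by
    rw [pow_one, pow_two]; exact S.T_sq x x.2)⟩, ?_⟩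
  have h := H82.card_mul_relIndex (le_sup_right : T ≤ W ⊔ T)
  rw [S.card_sup, mul_comm (Nat.card W)] at h
  rw [Nat.eq_of_mul_eq_mul_left Nat.card_pos h]
  exact fun h2 => Nat.not_even_iff_odd.2 S.W_odd (even_iff_two_dvd.2 h2)

theorem mem_sup_of_invol {i : G} (hiH : i ∈ H) (hi : orderOf i = 2) : i ∈ W ⊔ T := by
  obtain ⟨s, hs, h⟩ := S.invol i hiH hi
  refine S.mem_sup.2 ⟨i * s, h, s, hs, ?_⟩
  rw [mul_assoc, S.T_sq s hs, mul_one]

/-- A subgroup meeting every coset in an involution contains a conjugate of `T`. -/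
theorem exists_conj_le {M : Subgroup G}
    (hM : ∀ r ∈ T, r ≠ 1 → ∃ i ∈ M, i ∈ H ∧ orderOf i = 2 ∧ i * r ∈ W) :
    ∃ w ∈ W, ∀ s ∈ T, w * s * w⁻¹ ∈ M := by
  classical
  haveI : Fact (Nat.Prime 2) := ⟨Nat.prime_two⟩
  obtain ⟨Q, hQ⟩ := H82.exists_sylowIn 2 (M ⊓ (W ⊔ T))
  have hex : ∀ r : T, ∃ q : Q, (q : G) * (r : G) ∈ W := by
    intro r
    by_cases hr : (r : G) = 1
    · exact ⟨1, by rw [hr, Subgroup.coe_one, one_mul]; exact one_mem _⟩
    obtain ⟨i, hiM, hiH, hi, hir⟩ := hM r r.2 hr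
    have hiN : i ∈ M ⊓ (W ⊔ T) := ⟨hiM, S.mem_sup_of_invol hiH hi⟩
    obtain ⟨m, hm, hmle⟩ := hQ.exists_conj_le (Q := zpowers i)
      (IsPGroup.of_card (n := 1) (by rw [Nat.card_zpowers, hi, pow_one])) (zpowers_le.2 hiN)
    refine ⟨⟨m * i * m⁻¹, hmle ⟨i, mem_zpowers i, rfl⟩⟩, ?_⟩
    show m * i * m⁻¹ * r ∈ W
    obtain ⟨w, hw, s, hs, rfl⟩ := S.mem_sup.1 hm.2
    have h1 := S.W_conj s (S.T_le hs) _ hir
    have h2 : s * (i * r) * s⁻¹ = s * i * s⁻¹ * r := by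
      rw [show s * (i * r) * s⁻¹ = s * i * (r * s⁻¹) by group,
        S.comm r.2 (inv_mem hs)]
      group
    rw [h2] at h1
    have h3 := mul_mem (mul_mem hw h1) (S.W_conj r (S.T_le r.2) _ (inv_mem hw))
    rw [show w * (s * i * s⁻¹ * r) * ((r : G) * w⁻¹ * (r : G)⁻¹) =
      w * (s * i * s⁻¹) * ((r : G) * r) * w⁻¹ * (r : G)⁻¹ by group, S.T_sq r r.2, mul_one,
      S.inv_self r.2] at h3
    rwa [show w * s * i * (w * s)⁻¹ * r = w * (s * i * s⁻¹) * w⁻¹ * r by group]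
  choose f hf using hex
  have hfi : Function.Injective f := by
    intro r r' h
    have h1 := mul_mem (inv_mem (hf r)) (hf r')
    rw [h, show ((f r' : G) * (r : G))⁻¹ * ((f r' : G) * (r' : G)) = (r : G)⁻¹ * r' by group,
      S.inv_self r.2] at h1
    exact Subtype.ext (S.eq_of_mul_mem r.2 r'.2 h1)
  have hcard := Nat.card_le_card_of_injective f hfi
  obtain ⟨m, hm, hmle⟩ := S.sylowIn_T.exists_conj_le hQ.isPGroup (hQ.le.trans inf_le_right)
  have heq : Q.map (MulAut.conj m).toMonoidHom = T :=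
    Subgroup.eq_of_le_of_card_ge hmle (by rw [H82.card_map_conj]; exact hcard)
  obtain ⟨w, hw, s₀, hs₀, hm'⟩ := S.mem_sup.1 (inv_mem hm)
  refine ⟨w, hw, fun s hs => ?_⟩
  have h : m⁻¹ * s * m ∈ Q := by
    rw [← heq] at hs
    exact H82.mem_map_conj_iff.1 hs
  have hc : m⁻¹ * s * m = w * s * w⁻¹ := by
    have hm'' : m = s₀⁻¹ * w⁻¹ := by rw [← mul_inv_rev, ← hm', inv_inv]
    rw [hm', hm'', show w * s₀ * s * (s₀⁻¹ * w⁻¹) = w * (s₀ * s * s₀⁻¹) * w⁻¹ by group,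
      S.comm hs₀ hs, mul_inv_cancel_right]
  exact hc ▸ (hQ.le h).1

end Setup

namespace Base

variable (B : Base G H W T z)
include B

/-- A Sylow subgroup of `D` inside `W` with a third fixed point has a normaliser fit for
induction. -/
theorem exists_local {p : ℕ} [Fact p.Prime] {P : Subgroup G} (hP : H82.SylowIn p P (Dz H z))
    (hPW : P ≤ W) {c : G ⧸ H} (hca : c ≠ pa H) (hcb : c ≠ pb H z) (hc : ∀ y ∈ P, y • c = c) :
    (∃ w ∈ W, ∀ s ∈ T, w * s * w⁻¹ ∈ Subgroup.normalizer (P : Set G)) ∧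
      ∃ m ∈ Subgroup.normalizer (P : Set G), m • pa H = pb H z ∧ m ∉ H := by
  obtain ⟨t, htH, ht, htN⟩ := B.exists_invol_normalizer hP hca hcb hc
  refine ⟨B.S.exists_conj_le fun r hr hr1 => ?_, ?_⟩
  · obtain ⟨d, hd, hdt⟩ := B.exists_D_conj htH ht (B.S.T_le hr) (B.S.orderOf_two hr hr1)
    have hPK : H82.SylowIn p P (Dz H z ⊓ W) := hP.of_le (le_inf hP.le hPW) inf_le_left
    have hPd : H82.SylowIn p (P.map (MulAut.conj d).toMonoidHom) (Dz H z ⊓ W) := by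
      refine ⟨?_, hP.isPGroup.map _, ?_⟩
      · rintro _ ⟨y, hy, rfl⟩
        exact B.K_conj hd (hPK.le hy)
      · intro hdvd
        refine hPK.not_dvd ?_
        have hK : (Dz H z ⊓ W).map (MulAut.conj d).toMonoidHom = Dz H z ⊓ W := by
          refine Subgroup.eq_of_le_of_card_ge ?_ (H82.card_map_conj _ _).ge
          rintro _ ⟨y, hy, rfl⟩
          exact B.K_conj hd hy
        rw [← hK, Subgroup.relIndex_map_map_of_injective _ _ (MulAut.conj d).injective] at hdvd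
        exact hdvd
    obtain ⟨k, hk, hkP⟩ := hPK.exists_conj hPd
    have hnN : k⁻¹ * d ∈ Subgroup.normalizer (P : Set G) := by
      rw [H82.mem_normalizer_iff_map, H82.map_conj_mul, ← hkP, H82.map_conj_inv_cancel]
    refine ⟨k⁻¹ * d * t * (k⁻¹ * d)⁻¹, mul_mem (mul_mem hnN htN) (inv_mem hnN), ?_,
      H67.invol_conj ht _, ?_⟩
    · exact mul_mem (mul_mem (mul_mem (inv_mem (B.S.W_le hk.2)) (B.D_le hd)) htH)
        (inv_mem (mul_mem (inv_mem (B.S.W_le hk.2)) (B.D_le hd)))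
    · rw [show k⁻¹ * d * t * (k⁻¹ * d)⁻¹ = k⁻¹ * (d * t * d⁻¹) * k⁻¹⁻¹ by group, hdt]
      exact B.S.triv_of_mem_sup (mem_sup_left (inv_mem hk.2)) r hr
  · obtain ⟨m, hm, hma, -⟩ := B.witt hP B.pb_ne (fun y hy => (hP.le hy).2)
      (fun y hy => (hP.le hy).1)
    exact ⟨m, hm, hma, fun h => B.pb_ne (by rw [← hma, (smul_pa_iff H).2 h])⟩

theorem exists_t_conj_smul {c : G ⧸ H} (hca : c ≠ pa H) :
    ∃ h ∈ H, h • pb H z = c := by
  obtain ⟨g, g1, g2⟩ := B.two_trans B.pb_ne.symm hca.symm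
  exact ⟨g, (smul_pa_iff H).1 g1, g2⟩

theorem odd_swap_false {x : G} (hodd : Odd (orderOf x)) (hxa : x • pa H = pb H z)
    (hxb : x • pb H z = pa H) : False := by
  obtain ⟨k, hk⟩ := hodd
  have hx2 : (x * x) • pa H = pa H := by rw [mul_smul, hxa, hxb]
  have h1 : (x * x) ^ (k + 1) = x := by
    rw [← pow_two, ← pow_mul, show 2 * (k + 1) = orderOf x + 1 by omega, pow_succ,
      pow_orderOf_eq_one, one_mul]
  have h2 : (x * x) ^ (k + 1) ∈ MulAction.stabilizer G (pa H) := pow_mem hx2 _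
  rw [h1] at h2
  exact B.pb_ne (hxa.symm.trans h2)

/-- A Sylow `e`-subgroup of `D` fixes only two points. -/
theorem e_no_third {p : ℕ} [Fact p.Prime] (hp : p = Nat.card T - 1) {E : Subgroup G}
    (hE : H82.SylowIn p E (Dz H z)) {c : G ⧸ H} (hc : ∀ y ∈ E, y • c = c) :
    c = pa H ∨ c = pb H z := by
  by_contra hcon
  push Not at hcon
  obtain ⟨t, htH, ht, htN⟩ := B.exists_invol_normalizer hE hcon.1 hcon.2 hc
  obtain ⟨s, hs, hts⟩ := B.S.invol t htH ht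
  have hEW : ¬ E ≤ W := by
    intro h
    refine hE.not_dvd ?_
    rw [← Subgroup.relIndex_mul_relIndex E (Dz H z ⊓ W) (Dz H z) (le_inf hE.le h) inf_le_left,
      B.relIndex_K, hp]
    exact dvd_mul_left _ _
  refine hEW fun α hα => ?_
  have hαD := hE.le hα
  have hc' : α * t * α⁻¹ * t ∈ E := by
    have h1 : t * α⁻¹ * t ∈ E := by
      have := (Subgroup.mem_normalizer_iff.1 htN α⁻¹).1 (inv_mem hα)
      rwa [H70.inv_eq_self_of_two ht] at this
    rw [show α * t * α⁻¹ * t = α * (t * α⁻¹ * t) by group]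
    exact mul_mem hα h1
  have hsup : α * t * α⁻¹ * t ∈ W ⊔ T :=
    mul_mem (B.S.mem_sup_of_invol (mul_mem (mul_mem (B.D_le hαD) htH) (inv_mem (B.D_le hαD)))
      (H67.invol_conj ht α)) (B.S.mem_sup_of_invol htH ht)
  have hW := B.S.mem_W_of_odd hsup (B.odd_of_mem_D (hE.le hc'))
  obtain ⟨s', hs', hs1, w, hw, rfl⟩ := B.S.exists_conj_T htH ht
  exact B.triv_mem_W hαD (B.S.act α (B.D_le hαD) s' hs' hs1
    ((B.S.triv_conj (B.D_le hαD) hw s' hs').1 hW))

/-- A Sylow `e`-subgroup of `D` is a Sylow subgroup of `G`. -/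
theorem e_sylow_top {p : ℕ} [Fact p.Prime] (hp : p = Nat.card T - 1) {E : Subgroup G}
    (hE : H82.SylowIn p E (Dz H z)) : H82.SylowIn p E ⊤ := by
  refine ⟨le_top, hE.isPGroup, fun hdvd => ?_⟩
  obtain ⟨Q, hQ, hEQ⟩ := H82.exists_sylowIn_ge (M := ⊤) hE.isPGroup le_top
  have hlt : E < Q := lt_of_le_of_ne hEQ fun e => hQ.not_dvd (e ▸ hdvd)
  obtain ⟨x, hx, hxE⟩ := SetLike.exists_of_lt (H82.exists_normalizer_gt hQ.isPGroup hlt)
  have hfix : ∀ w ∈ ({pa H, pb H z} : Set (G ⧸ H)), x • w = pa H ∨ x • w = pb H z := by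
    intro w hw
    refine B.e_no_third hp hE fun y hy => ?_
    have h1 : x⁻¹ * y * x ∈ E := (Subgroup.mem_normalizer_iff''.1 hx.2 y).1 hy
    have h2 : (x⁻¹ * y * x) • w = w := by
      rcases hw with rfl | rfl
      · exact (hE.le h1).1
      · exact (hE.le h1).2
    conv_rhs => rw [← h2]
    rw [← mul_smul, ← mul_smul]
    congr 1
    group
  have hne : x • pa H ≠ x • pb H z := fun e => B.pb_ne (MulAction.injective x e).symm
  have hodd : Odd (orderOf x) := by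
    rcases (Fact.out : p.Prime).eq_two_or_odd' with h2 | h2
    · exfalso
      have h3 := B.S.four_le
      rw [h2] at hp
      omega
    · obtain ⟨k, hk⟩ := (IsPGroup.iff_orderOf.1 hQ.isPGroup) ⟨x, hx.1⟩
      rw [Subgroup.orderOf_mk] at hk
      rw [hk]; exact h2.pow
  rcases hfix (pa H) (Or.inl rfl) with ha | ha <;> rcases hfix (pb H z) (Or.inr rfl) with hb | hb
  · exact hne (ha.trans hb.symm)
  · have hxD : x ∈ Dz H z := ⟨ha, hb⟩
    refine hxE ?_
    have hle : E ≤ Q ⊓ Dz H z := le_inf hEQ hE.le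
    rw [← hE.eq_of_le (hQ.isPGroup.to_le inf_le_left) inf_le_right hle]
    exact ⟨hx.1, hxD⟩
  · exact B.odd_swap_false hodd ha hb
  · exact hne (ha.trans hb.symm)

/-- For every prime the part of `|W|` is that of `|D ∩ W|` or prime to it. -/
theorem exists_sylow_W {p : ℕ} [Fact p.Prime] (hdvd : p ∣ Nat.card ↥(Dz H z ⊓ W)) :
    ∃ R : Subgroup G, R ≤ Dz H z ⊓ W ∧ H82.SylowIn p R W := by
  by_cases hp : p = Nat.card T - 1
  · obtain ⟨E, hE⟩ := H82.exists_sylowIn p (Dz H z)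
    refine ⟨E ⊓ W, inf_le_inf_right W hE.le, inf_le_right, hE.isPGroup.to_le inf_le_left, ?_⟩
    intro hd
    have hEH : H82.SylowIn p E H := (B.e_sylow_top hp hE).of_le (hE.le.trans B.D_le) le_top
    obtain ⟨Q, hQ, hle⟩ := H82.exists_sylowIn_ge (M := W) (hE.isPGroup.to_le inf_le_left)
      (inf_le_right : E ⊓ W ≤ W)
    obtain ⟨h, hh, hQE⟩ := hEH.exists_conj_le hQ.isPGroup (hQ.le.trans B.S.W_le)
    have hQle : Q.map (MulAut.conj h).toMonoidHom ≤ E ⊓ W := by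
      refine le_inf hQE ?_
      rintro _ ⟨y, hy, rfl⟩
      exact B.S.W_conj h hh y (hQ.le hy)
    have h1 := Subgroup.card_le_of_le hQle
    rw [H82.card_map_conj] at h1
    rw [Subgroup.eq_of_le_of_card_ge hle h1] at hd
    exact hQ.not_dvd hd
  · obtain ⟨R, hR⟩ := H82.exists_sylowIn p (Dz H z)
    have hRW := B.le_W_of_ne Fact.out hp hR.isPGroup hR.le
    refine ⟨R, le_inf hR.le hRW, hRW, hR.isPGroup, fun hd => ?_⟩
    obtain ⟨Q, hQ, hRQ⟩ := H82.exists_sylowIn_ge (M := W) hR.isPGroup hRW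
    have hlt : R < Q := lt_of_le_of_ne hRQ fun e => hQ.not_dvd (e ▸ hd)
    obtain ⟨x, hx, hxR⟩ := SetLike.exists_of_lt (H82.exists_normalizer_gt hQ.isPGroup hlt)
    have hxW := hQ.le hx.1
    have hxb : x • pb H z ≠ pb H z := by
      intro e
      refine hxR ?_
      rw [← hR.eq_of_le (hQ.isPGroup.to_le inf_le_left) inf_le_right
        (le_inf hRQ hR.le : R ≤ Q ⊓ Dz H z)]
      exact ⟨hx.1, (smul_pa_iff H).2 (B.S.W_le hxW), e⟩
    have hxa : x • pb H z ≠ pa H := by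
      intro e
      refine B.pb_ne (MulAction.injective x (e.trans ?_))
      exact ((smul_pa_iff H).2 (B.S.W_le hxW)).symm
    have hfix : ∀ y ∈ R, y • x • pb H z = x • pb H z := by
      intro y hy
      have h1 : x⁻¹ * y * x ∈ R := (Subgroup.mem_normalizer_iff''.1 hx.2 y).1 hy
      have h2 : (x⁻¹ * y * x) • pb H z = pb H z := (hR.le h1).2
      conv_rhs => rw [← h2]
      rw [← mul_smul, ← mul_smul]
      congr 1
      group
    obtain ⟨⟨w, hw, hwT⟩, m, hm, hma, hmH⟩ := B.exists_local hR hRW hxa hxb hfix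
    have hR1 : R ≠ ⊥ := by
      intro hbot
      refine hR.not_dvd ?_
      rw [hbot, Subgroup.relIndex_bot_left]
      exact hdvd.trans (card_dvd_of_le inf_le_left)
    have hloc := (B.local_good (B.normalizer_ne_top (hRW.trans B.S.W_le) hR1) hm hmH hw hwT).1 x
      hx.2 hxW m⁻¹ (inv_mem hm)
    rw [inv_inv, ← smul_pa_iff, mul_smul, mul_smul, hma, inv_smul_eq_iff, hma] at hloc
    exact hxb hloc

theorem coprime_K : (Nat.card ↥(Dz H z ⊓ W)).Coprime ((Dz H z ⊓ W).relIndex W) := by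
  refine Nat.coprime_of_dvd fun p hp h1 h2 => ?_
  haveI := Fact.mk hp
  obtain ⟨R, hRK, hR⟩ := B.exists_sylow_W h1
  refine hR.not_dvd ?_
  rw [← Subgroup.relIndex_mul_relIndex R (Dz H z ⊓ W) W hRK inf_le_right]
  exact h2.trans (dvd_mul_left _ _)

/-- `T` centralises `W`. -/
theorem comm_TW {t w : G} (htH : t ∈ H) (ht : orderOf t = 2) (hw : w ∈ W) : t * w = w * t := by
  classical
  haveI : Group.IsSolvable W := H16.FT.oddOrder B.S.W_odd
  set K := Dz H z ⊓ W with hKdef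
  have hTN : T ≤ Subgroup.normalizer (W : Set G) := fun s hs => by
    rw [Subgroup.mem_normalizer_iff]
    refine fun y => ⟨fun hy => B.S.W_conj s (B.S.T_le hs) y hy, fun hy => ?_⟩
    have h := B.S.W_conj' (B.S.T_le hs) hy
    rwa [show s⁻¹ * (s * y * s⁻¹) * s = y by group] at h
  have hcop : (Nat.card T).Coprime (Nat.card W) := by
    haveI : Fact (Nat.Prime 2) := ⟨Nat.prime_two⟩
    obtain ⟨k, hk⟩ := IsPGroup.iff_card.1 B.S.sylowIn_T.isPGroup
    rw [hk]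
    exact Nat.Coprime.pow_left k (Nat.coprime_two_left.2 B.S.W_odd)
  have hcard : Nat.card W = Nat.card K * K.relIndex W := (H82.card_mul_relIndex inf_le_right).symm
  obtain ⟨K₀, hK₀W, hK₀c, hTK₀⟩ := H1.exists_invariant_hall hTN hcop _ _ hcard B.coprime_K
  obtain ⟨g, hg⟩ := H1.hall_conj (G := W) _ _ hcard B.coprime_K (K₀.subgroupOf W) (K.subgroupOf W)
    (by rw [Nat.card_congr (Subgroup.subgroupOfEquivOfLe hK₀W).toEquiv, hK₀c])
    (Nat.card_congr (Subgroup.subgroupOfEquivOfLe inf_le_right).toEquiv)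
  have hKmap : K₀.map (MulAut.conj (g : G)).toMonoidHom = K := by
    refine Subgroup.eq_of_le_of_card_ge ?_ (by rw [H82.card_map_conj, hK₀c])
    rintro _ ⟨y, hy, rfl⟩
    have h1 : (MulAut.conj g) (⟨y, hK₀W hy⟩ : W) ∈ K.subgroupOf W := by
      rw [← hg]
      exact Subgroup.smul_mem_pointwise_smul _ _ (K₀.subgroupOf W)
        (show (⟨y, hK₀W hy⟩ : W) ∈ K₀.subgroupOf W from hy)
    exact h1
  obtain ⟨t₀, ht₀, ht₀1⟩ := B.exists_t
  set t₁ := (g : G) * t₀ * (g : G)⁻¹ with ht₁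
  have ht₁N : t₁ ∈ Subgroup.normalizer (K : Set G) := by
    rw [← hKmap, H82.normalizer_map_conj]
    exact ⟨t₀, hTK₀ ht₀, rfl⟩
  have ht₁2 : orderOf t₁ = 2 := H67.invol_conj (B.S.orderOf_two ht₀ ht₀1) _
  have ht₁H : t₁ ∈ H :=
    mul_mem (mul_mem (B.S.W_le g.2) (B.S.T_le ht₀)) (inv_mem (B.S.W_le g.2))
  have hall : ∀ i ∈ H, orderOf i = 2 → ∀ k ∈ K, i * k * i⁻¹ ∈ K := by
    intro i hiH hi k hk
    obtain ⟨d, hd, hdi⟩ := B.exists_D_conj ht₁H ht₁2 hiH hi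
    rw [← hdi]
    have h1 : d⁻¹ * k * d ∈ K := by
      have h := B.K_conj (inv_mem hd) hk
      rwa [inv_inv] at h
    have h3 := B.K_conj hd ((Subgroup.mem_normalizer_iff.1 ht₁N _).1 h1)
    rwa [show d * t₁ * d⁻¹ * k * (d * t₁ * d⁻¹)⁻¹ = d * (t₁ * (d⁻¹ * k * d) * t₁⁻¹) * d⁻¹ by
      group]
  have hx : ∀ i ∈ H, orderOf i = 2 → ∀ v ∈ W, i * v * i * v⁻¹ ∈ K := by
    intro i hiH hi v hv
    have hii := H70.mul_self_of_two hi
    obtain ⟨d, hd, hdi⟩ := B.exists_D_conj hiH hi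
      (mul_mem (mul_mem (B.S.W_le hv) hiH) (inv_mem (B.S.W_le hv)) : v * i * v⁻¹ ∈ H)
      (H67.invol_conj hi v)
    obtain ⟨s, hs, hs1, w', hw', hi'⟩ := B.S.exists_conj_T hiH hi
    have h2 : d * i * d⁻¹ * i ∈ W := by
      rw [hdi]
      have h := mul_mem hv (B.S.W_conj i hiH _ (inv_mem hv))
      rwa [show v * (i * v⁻¹ * i⁻¹) = v * i * v⁻¹ * i⁻¹ by group,
        H70.inv_eq_self_of_two hi] at h
    have hdW : d ∈ W := by
      refine B.triv_mem_W hd (B.S.act d (B.D_le hd) s hs hs1 ?_)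
      rw [hi'] at h2
      exact (B.S.triv_conj (B.D_le hd) hw' s hs).1 h2
    have h3 := mul_mem (hall i hiH hi d ⟨hd, hdW⟩) (inv_mem (show d ∈ K from ⟨hd, hdW⟩))
    rwa [show i * d * i⁻¹ * d⁻¹ = i * (d * i⁻¹ * d⁻¹) by group, H70.inv_eq_self_of_two hi, hdi,
      show i * (v * i * v⁻¹) = i * v * i * v⁻¹ by group] at h3
  have hone : t * w * t * w⁻¹ ∈ H.normalCore := by
    intro b
    have hxH : t * w * t * w⁻¹ ∈ H :=
      mul_mem (mul_mem (mul_mem htH (B.S.W_le hw)) htH) (inv_mem (B.S.W_le hw))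
    have hfix : (t * w * t * w⁻¹) • ((b⁻¹ : G) : G ⧸ H) = ((b⁻¹ : G) : G ⧸ H) := by
      by_cases hb : ((b⁻¹ : G) : G ⧸ H) = pa H
      · rw [hb]; exact (smul_pa_iff H).2 hxH
      obtain ⟨h, hh, hhb⟩ := B.exists_t_conj_smul hb
      rw [← hhb]
      have h1 := (hx (h⁻¹ * t * h) (mul_mem (mul_mem (inv_mem hh) htH) hh)
        (by simpa using H67.invol_conj ht h⁻¹) (h⁻¹ * w * h) (B.S.W_conj' hh hw)).1.2
      rw [show h⁻¹ * t * h * (h⁻¹ * w * h) * (h⁻¹ * t * h) * (h⁻¹ * w * h)⁻¹ =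
        h⁻¹ * (t * w * t * w⁻¹) * h by group] at h1
      have h1' : (h⁻¹ * (t * w * t * w⁻¹) * h) • pb H z = pb H z := h1
      rw [mul_smul, mul_smul, inv_smul_eq_iff] at h1'
      exact h1'
    have := H65.smul_coset_eq_iff.1 hfix
    rwa [inv_inv] at this
  rw [B.core, Subgroup.mem_bot, mul_inv_eq_one] at hone
  conv_rhs => rw [← hone]
  rw [mul_assoc (t * w), H70.mul_self_of_two ht, mul_one]

end Base

end H64.SEP
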