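import Cfsg.Agent.H64.SEP.Count
import Cfsg.Agent.H64.SEP.Block
import Cfsg.Agent.H12.Products

/-!
`D ∩ W = 1` in the minimal situation (helper64): the character argument.
-/

set_option autoImplicit false
set_option linter.style.haveILetI false
set_option linter.unusedSectionVars false

open Cfsg
open scoped ComplexConjugate

namespace H64.SEP

open Subgroup

universe u

variable {G : Type u} [Group G] [Fintype G]

theorem exists_two_irr {φ : G → ℂ} (hφ : IsCharacter G φ) (h : classInner φ φ = 2) :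
    ∃ A B : IrrCharacter G, A ≠ B ∧ φ = (A : G → ℂ) + (B : G → ℂ) ∧
      classInner φ A = 1 ∧ classInner φ B = 1 := by
  classical
  obtain ⟨m, rfl⟩ := H12.IsCharacter.exists_mult hφ
  rw [H12.classInner_sum_smul_sum_smul] at h
  have h' : ∑ χ, m χ * m χ = 2 := by
    have : ((∑ χ, m χ * m χ : ℕ) : ℂ) = ((2 : ℕ) : ℂ) := by
      push_cast; simpa using h
    exact_mod_cast this
  have h1 : ∀ χ, m χ ≠ 0 → m χ = 1 := by
    intro χ hχ
    have hle := Finset.single_le_sum (f := fun χ => m χ * m χ) (fun _ _ => Nat.zero_le _)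
      (Finset.mem_univ χ)
    simp only [h'] at hle
    by_contra hne
    have : 2 * 2 ≤ m χ * m χ := Nat.mul_le_mul (by omega) (by omega)
    omega
  obtain ⟨A, B, hAB, hS⟩ : ∃ A B, A ≠ B ∧ (Finset.univ.filter fun χ => m χ ≠ 0) = {A, B} := by
    rw [← Finset.card_eq_two, Finset.card_filter, ← h']
    refine Finset.sum_congr rfl fun χ _ => ?_
    split_ifs with hχ
    · rw [h1 χ hχ]
    · rw [not_not.1 hχ]
  have hA : A ∈ Finset.univ.filter fun χ => m χ ≠ 0 := hS ▸ Finset.mem_insert_self _ _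
  have hB : B ∈ Finset.univ.filter fun χ => m χ ≠ 0 :=
    hS ▸ Finset.mem_insert_of_mem (Finset.mem_singleton_self _)
  rw [Finset.mem_filter] at hA hB
  refine ⟨A, B, hAB, ?_, ?_, ?_⟩
  · rw [← Finset.sum_subset (Finset.subset_univ ({A, B} : Finset _)), Finset.sum_pair hAB,
      h1 A hA.2, h1 B hB.2]
    · simp
    · intro χ _ hχ
      rw [show m χ = 0 by
        by_contra hne
        exact hχ (hS ▸ Finset.mem_filter.2 ⟨Finset.mem_univ _, hne⟩)]
      simp
  · rw [H12.classInner_sum_smul_irr, h1 A hA.2, Nat.cast_one]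
  · rw [H12.classInner_sum_smul_irr, h1 B hB.2, Nat.cast_one]

/-- A simple constituent restricts to a constituent. -/
theorem res_inner_succ {X U : Type u} [Group X] [Group U] [Fintype X] [Fintype U] (f : U →* X)
    {φ : X → ℂ} (hφ : IsCharacter X φ) (χ : IrrCharacter X)
    (h : classInner φ (χ : X → ℂ) = 1)
    (h' : classInner ((χ : X → ℂ) ∘ f) ((χ : X → ℂ) ∘ f) = 1) :
    ∃ n : ℕ, classInner (φ ∘ f) ((χ : X → ℂ) ∘ f) = (n : ℂ) + 1 := by
  classical
  obtain ⟨m, rfl⟩ := H12.IsCharacter.exists_mult hφ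
  rw [H12.classInner_sum_smul_irr] at h
  obtain ⟨R, hRdef⟩ : ∃ R, R = ∑ ψ : IrrCharacter X,
      (((if ψ = χ then 0 else m ψ : ℕ)) : ℂ) • (ψ : X → ℂ) := ⟨_, rfl⟩
  have hR : IsCharacter X R := hRdef ▸ H12.isCharacter_sum_natCast_smul _
  have hsum : (∑ ψ : IrrCharacter X, (m ψ : ℂ) • (ψ : X → ℂ)) = (χ : X → ℂ) + R := by
    rw [hRdef, ← Finset.add_sum_erase _ _ (Finset.mem_univ χ), h, one_smul,
      ← Finset.add_sum_erase _ (fun ψ : IrrCharacter X =>
        (((if ψ = χ then 0 else m ψ : ℕ)) : ℂ) • (ψ : X → ℂ)) (Finset.mem_univ χ)]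
    rw [if_pos rfl, Nat.cast_zero, zero_smul, zero_add]
    congr 1
    refine Finset.sum_congr rfl fun ψ hψ => ?_
    rw [if_neg (Finset.ne_of_mem_erase hψ)]
  obtain ⟨n, hn⟩ := H12.IsCharacter.classInner_nat (H12.IsCharacter.comp hR f)
    (H12.IsCharacter.comp (H12.isCharacter_irr χ) f)
  refine ⟨n, ?_⟩
  rw [hsum, show (((χ : X → ℂ) + R) ∘ f) = ((χ : X → ℂ) ∘ f) + (R ∘ f) from rfl,
    H12.classInner_add_left, h', hn, add_comm]

variable {H W T : Subgroup G} {z : G}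

namespace Base

variable (B : Base G H W T z)
include B

theorem centData (hK : Dz H z ⊓ W ≠ ⊥) {t : G} (ht : t ∈ T) (ht1 : t ≠ 1) : CentData W T t where
  W_le w hw := Subgroup.mem_centralizer_singleton_iff.2 (B.comm_WT hw ht).symm
  T_le s hs := Subgroup.mem_centralizer_singleton_iff.2 (B.S.comm hs ht)
  t_mem := ht
  t_two := B.S.orderOf_two ht ht1
  comm w hw s hs := B.comm_WT hw hs
  T_comm _ hs _ hr := B.S.comm hs hr
  T_sq := B.S.T_sq
  W_odd := B.S.W_odd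
  decomp c hc := by
    have hc' := Subgroup.mem_centralizer_singleton_iff.1 hc
    have ht2 := B.S.orderOf_two ht ht1
    have hcH : c ∈ H := H65.se_conj_mem B.S.se (t := t) ht2 (B.S.T_le ht) (by
      rw [mul_assoc, ← hc', inv_mul_cancel_left]; exact B.S.T_le ht)
    exact B.S.mem_sup.1 (B.triv_le hK hcH (B.triv_of_commute hcH (B.S.T_le ht) ht2 hc'))

variable (μ : H →* ℂˣ)
  (hμz : ∀ (x : G) (hx : x ∈ Dz H z),
    μ ⟨z * x * z, B.D_le (B.inv_mem_D_conj hx)⟩ = μ ⟨x, B.D_le hx⟩)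
  (hT : ∀ (s : G) (hs : s ∈ T), μ ⟨s, B.S.T_le hs⟩ = 1)
  (hK : Dz H z ⊓ W ≠ ⊥)

/-- The restriction of `μ` to `W`. -/
abbrev muW : W →* ℂˣ := μ.comp (Subgroup.inclusion B.S.W_le)

/-- The restriction of `μ` to `W T`. -/
abbrev muU : ↥(W ⊔ T) →* ℂˣ := μ.comp (Subgroup.inclusion B.S.sup_le_H)

include hμz hT hK in
/-- The multiplicities of a constituent of the induced character. -/
theorem constituent [Fintype H] [Fintype W] [Fintype ↥(W ⊔ T)] {t : G} (ht : t ∈ T) (ht1 : t ≠ 1)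
    (A : IrrCharacter G) (hA : classInner (indFun H (lin μ)) (A : G → ℂ) = 1) :
    ∃ (c n : ℕ) (δ : ℤ),
      classInner (fun w : W => (A : G → ℂ) w) (H12.linIrr (B.muW μ) : W → ℂ) = (c : ℂ) ∧
      classInner (fun u : ↥(W ⊔ T) => (A : G → ℂ) u)
        (H12.linIrr (B.muU μ) : ↥(W ⊔ T) → ℂ) = (n : ℂ) + 1 ∧
      (Nat.card T : ℤ) * ((n : ℤ) + 1) = (c : ℤ) + ((Nat.card T : ℤ) - 1) * δ ∧
      (δ = 0 ∨ (A : G → ℂ) t = (δ : ℂ)) := by
  classical
  haveI : Fintype T := Fintype.ofFinite _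
  haveI : Fintype (Subgroup.centralizer ({t} : Set G)) := Fintype.ofFinite _
  have ht2 := B.S.orderOf_two ht ht1
  obtain ⟨c, hc⟩ := H12.IsCharacter.classInner_nat (H12.IsCharacter.res (H12.isCharacter_irr A) W)
    (H12.isCharacter_irr (H12.linIrr (B.muW μ)))
  have hAH : classInner (fun h : H => (A : G → ℂ) h) (H12.linIrr μ : H → ℂ) = 1 := by
    show classInner (fun h : H => (A : G → ℂ) h) (lin μ) = 1
    rw [← H12.conj_classInner, ← H12.classInner_indFun H (lin μ) (H12.irr_isClassFunction A), hA,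
      map_one]
  obtain ⟨n, hn⟩ := res_inner_succ (Subgroup.inclusion B.S.sup_le_H)
    (H12.IsCharacter.res (H12.isCharacter_irr A) H) (H12.linIrr μ) hAH
    (H12.classInner_irr_self (H12.linIrr (B.muU μ)))
  have hn' : classInner (fun u : ↥(W ⊔ T) => (A : G → ℂ) u)
      (H12.linIrr (B.muU μ) : ↥(W ⊔ T) → ℂ) = (n : ℂ) + 1 := hn
  -- the sums over the cosets
  obtain ⟨S, hSdef⟩ : ∃ S : G → ℂ, S = fun s => ∑ w : W, (A : G → ℂ) (s * w) * conj (B.muW μ w : ℂ) :=
    ⟨_, rfl⟩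
  have hW0 : (Nat.card W : ℂ) ≠ 0 := by exact_mod_cast Nat.card_pos.ne'
  have hS1 : S 1 = (Nat.card W : ℂ) * c := by
    rw [← hc, H12.classInner_def, ← mul_assoc, mul_inv_cancel₀ hW0, one_mul, hSdef]
    refine Finset.sum_congr rfl fun w _ => ?_
    rw [one_mul]
    rfl
  have hSt : ∀ s ∈ T, s ≠ 1 → S s = S t := by
    intro s hs hs1
    obtain ⟨d, hd, hds⟩ := B.exists_D_conj (B.S.T_le ht) ht2 (B.S.T_le hs) (B.S.orderOf_two hs hs1)
    have hdH := B.D_le hd
    rw [hSdef]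
    refine (Fintype.sum_equiv
      { toFun := fun w : W => (⟨d * w * d⁻¹, B.S.W_conj d hdH w w.2⟩ : W)
        invFun := fun w => ⟨d⁻¹ * w * d, B.S.W_conj' hdH w.2⟩
        left_inv := fun w => Subtype.ext (by
          show d⁻¹ * (d * w * d⁻¹) * d = w
          group)
        right_inv := fun w => Subtype.ext (by
          show d * (d⁻¹ * w * d) * d⁻¹ = w
          group) } _ _ fun w => ?_).symm
    show (A : G → ℂ) (t * w) * _ = (A : G → ℂ) (s * (d * w * d⁻¹)) * _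
    rw [← hds, show d * t * d⁻¹ * (d * (w : G) * d⁻¹) = d * (t * w) * d⁻¹ by group,
      H12.irr_isClassFunction A]
    congr 2
    show ((μ ⟨w, B.S.W_le w.2⟩ : ℂˣ) : ℂ) = ((μ ⟨d * w * d⁻¹, _⟩ : ℂˣ) : ℂ)
    rw [show (⟨d * w * d⁻¹, B.S.W_le (B.S.W_conj d hdH w w.2)⟩ : H) =
      (⟨d, hdH⟩ : H) * ⟨w, B.S.W_le w.2⟩ * (⟨d, hdH⟩ : H)⁻¹ from Subtype.ext rfl,
      map_mul, map_mul, map_inv, mul_right_comm, mul_inv_cancel, one_mul]
  have hfus : ∀ a b : W, IsConj (a : G) (b : G) → B.muW μ a = B.muW μ b := by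
    intro a b hab
    obtain ⟨g, hg⟩ := isConj_iff.1 hab
    have h1 : g⁻¹⁻¹ * (a : G) * g⁻¹ ∈ H := by rw [inv_inv, hg]; exact B.S.W_le b.2
    have h2 := B.mu_fusion μ hμz (B.S.W_le a.2) h1
    rw [show (⟨g⁻¹⁻¹ * (a : G) * g⁻¹, h1⟩ : H) = ⟨b, B.S.W_le b.2⟩ from
      Subtype.ext (by show g⁻¹⁻¹ * (a : G) * g⁻¹ = b; rw [inv_inv, hg])] at h2
    exact h2.symm
  obtain ⟨δ, hδS, hδ⟩ : ∃ δ : ℤ, S t = (Nat.card W : ℂ) * δ ∧ (δ = 0 ∨ (A : G → ℂ) t = (δ : ℂ)) := by
    rcases (B.centData hK ht ht1).dichotomy (B.muW μ) hfus A with h | h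
    · exact ⟨0, by rw [hSdef]; simpa using h, Or.inl rfl⟩
    · obtain ⟨a, ha, -⟩ := H20.irr_involution A ht2
      refine ⟨a, ?_, Or.inr ha⟩
      rw [hSdef, ← ha]
      show ∑ w : W, _ = _
      rw [Finset.sum_congr rfl (g := fun _ => (A : G → ℂ) t) fun w _ => by
        rw [h w, mul_right_comm, conj_val, one_mul]]
      simp [Nat.card_eq_fintype_card]
  refine ⟨c, n, δ, hc, hn', ?_, hδ⟩
  have hbij : Function.Bijective (fun x : T × W =>
      (⟨(x.1 : G) * x.2, mul_mem (mem_sup_right x.1.2) (mem_sup_left x.2.2)⟩ : ↥(W ⊔ T))) := by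
    constructor
    · intro x y hxy
      have h : (x.1 : G) * x.2 = y.1 * y.2 := congrArg Subtype.val hxy
      rw [B.comm_WT x.2.2 x.1.2, B.comm_WT y.2.2 y.1.2] at h
      obtain ⟨h1, h2⟩ := (B.centData hK ht ht1).unique x.2.2 y.2.2 x.1.2 y.1.2 h
      exact Prod.ext (Subtype.ext h2) (Subtype.ext h1)
    · intro u
      obtain ⟨w, hw, s, hs, hu⟩ := B.S.mem_sup.1 u.2
      exact ⟨(⟨s, hs⟩, ⟨w, hw⟩), Subtype.ext ((B.comm_WT hw hs).trans hu.symm)⟩
  have hsum : ∑ u : ↥(W ⊔ T), (A : G → ℂ) u * conj (B.muU μ u : ℂ) = ∑ s : T, S (s : G) := by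
    rw [← (Equiv.ofBijective _ hbij).sum_comp (fun u : ↥(W ⊔ T) =>
      (A : G → ℂ) u * conj (B.muU μ u : ℂ)), Fintype.sum_prod_type, hSdef]
    refine Finset.sum_congr rfl fun s _ => Finset.sum_congr rfl fun w _ => ?_
    show (A : G → ℂ) ((s : G) * w) * conj ((μ ⟨(s : G) * w, _⟩ : ℂˣ) : ℂ) = _
    rw [show (⟨(s : G) * w, B.S.sup_le_H (mul_mem (mem_sup_right s.2) (mem_sup_left w.2))⟩ : H) =
      ⟨s, B.S.T_le s.2⟩ * ⟨w, B.S.W_le w.2⟩ from Subtype.ext rfl, map_mul, hT s s.2, one_mul]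
    rfl
  have hU : (Nat.card ↥(W ⊔ T) : ℂ) = (Nat.card W : ℂ) * Nat.card T := by
    rw [B.S.card_sup, Nat.cast_mul]
  have hkey : (Nat.card ↥(W ⊔ T) : ℂ) * ((n : ℂ) + 1) = ∑ s : T, S (s : G) := by
    rw [← hsum, ← hn', H12.classInner_def, ← mul_assoc,
      mul_inv_cancel₀ (by exact_mod_cast Nat.card_pos.ne'), one_mul]
    rfl
  have hrest : ∀ s ∈ (Finset.univ : Finset T).erase 1, S (s : G) = S t := fun s hs =>
    hSt s s.2 fun e => Finset.ne_of_mem_erase hs (Subtype.ext e)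
  rw [← Finset.add_sum_erase _ _ (Finset.mem_univ (1 : T)), Finset.sum_congr rfl hrest,
    Finset.sum_const, Finset.card_erase_of_mem (Finset.mem_univ _), Finset.card_univ,
    ← Nat.card_eq_fintype_card, nsmul_eq_mul, Nat.cast_sub (Nat.one_le_iff_ne_zero.2
      Nat.card_pos.ne'), Nat.cast_one, OneMemClass.coe_one, hS1, hδS, hU] at hkey
  have h2 : (Nat.card T : ℂ) * ((n : ℂ) + 1) = (c : ℂ) + ((Nat.card T : ℂ) - 1) * δ :=
    mul_left_cancel₀ hW0 (by linear_combination hkey)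
  exact_mod_cast h2

omit [Fintype G] hμz hT hK in
theorem perm_invol [Fintype G] {t : G} (ht : t ∈ T) (ht1 : t ≠ 1) : perm H t = 1 := by
  classical
  rw [perm_apply, Finset.sum_boole]
  have h : (Finset.univ.filter fun x : G => t • (x : G ⧸ H) = (x : G ⧸ H)).card = Nat.card H := by
    rw [Nat.card_eq_fintype_card, Fintype.card_subtype]
    congr 1
    refine Finset.filter_congr fun x _ => ?_
    constructor
    · intro h
      have := B.fix_unique (B.S.orderOf_two ht ht1) h ((smul_pa_iff H).2 (B.S.T_le ht))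
      rwa [← smul_pa, smul_pa_iff] at this
    · intro hx
      rw [← smul_pa, (smul_pa_iff H).2 hx]
      exact (smul_pa_iff H).2 (B.S.T_le ht)
  rw [h, inv_mul_cancel₀ (by exact_mod_cast Nat.card_pos.ne')]

theorem exists_decomp {g : G} (hg : g ∉ H) : ∃ a ∈ H, ∃ b ∈ H, g = a * z * b := by
  obtain ⟨k, hk, hc⟩ := B.exists_H_smul (g • pa H) fun e => hg ((smul_pa_iff H).1 e)
  refine ⟨k, hk, (k * z)⁻¹ * g, ?_, by group⟩
  rw [← smul_pa_iff, mul_smul, ← hc, mul_inv_rev, mul_smul, inv_smul_smul,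
    H70.inv_eq_self_of_two B.z2, B.z_smul_pb]

omit B in
theorem eq_one_of_core (B : Base G H W T z) {x : G} (h : ∀ g : G, g * x * g⁻¹ ∈ H) : x = 1 :=
  Subgroup.mem_bot.1 (B.core ▸ (show x ∈ H.normalCore from h))

/-- The kernel of the two-point stabiliser on `T` is trivial. -/
theorem K_eq_bot : Dz H z ⊓ W = ⊥ := by
  classical
  by_contra hK
  obtain ⟨μ, hT, hμz, hodd, k, hk, hμk⟩ := B.exists_mu hK
  haveI : Fintype H := Fintype.ofFinite _
  haveI : Fintype W := Fintype.ofFinite _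
  haveI : Fintype ↥(W ⊔ T) := Fintype.ofFinite _
  obtain ⟨t, ht, ht1⟩ := B.exists_t
  have ht2 := B.S.orderOf_two ht ht1
  set θ := indFun H (lin μ) with hθ
  have hθch : IsCharacter G θ := H12.IsCharacter.indFun
    (H12.isCharacter_of_isIrrCharacter (H12.isIrrCharacter_monoidHom μ))
  obtain ⟨A₀, A₁, -, hθA, h0, h1⟩ := exists_two_irr hθch (B.norm_ind μ hμz)
  obtain ⟨c₀, n₀, δ₀, hc₀, hn₀, he₀, hd₀⟩ := B.constituent μ hμz hT hK ht ht1 A₀ h0
  obtain ⟨c₁, n₁, δ₁, hc₁, hn₁, he₁, hd₁⟩ := B.constituent μ hμz hT hK ht ht1 A₁ h1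
  -- the sums over `W` and `W T`
  have hθW : classInner (fun w : W => θ w) (H12.linIrr (B.muW μ) : W → ℂ) =
      (Nat.card T : ℂ) + 1 := by
    rw [H12.classInner_def, Finset.sum_congr rfl (g := fun w : W => perm H (w : G)) fun w _ => by
      show θ (w : G) * conj ((μ ⟨w, B.S.W_le w.2⟩ : ℂˣ) : ℂ) = _
      rw [hθ, B.ind_apply μ hμz ⟨w, B.S.W_le w.2⟩, mul_right_comm, conj_val, one_mul],
      B.sum_perm_W hK, inv_mul_cancel_left₀ (by exact_mod_cast Nat.card_pos.ne')]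
  have hθU : classInner (fun u : ↥(W ⊔ T) => θ u) (H12.linIrr (B.muU μ) : ↥(W ⊔ T) → ℂ) = 2 := by
    rw [H12.classInner_def, Finset.sum_congr rfl (g := fun u : ↥(W ⊔ T) => perm H (u : G))
      fun u _ => by
      show θ (u : G) * conj ((μ ⟨u, B.S.sup_le_H u.2⟩ : ℂˣ) : ℂ) = _
      rw [hθ, B.ind_apply μ hμz ⟨u, B.S.sup_le_H u.2⟩, mul_right_comm, conj_val, one_mul],
      B.sum_perm_sup hK, mul_comm (2 : ℂ),
      inv_mul_cancel_left₀ (by exact_mod_cast Nat.card_pos.ne')]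
  rw [hθA] at hθW hθU
  rw [show (fun w : W => ((A₀ : G → ℂ) + (A₁ : G → ℂ)) w) =
      (fun w : W => (A₀ : G → ℂ) w) + (fun w : W => (A₁ : G → ℂ) w) from rfl,
    H12.classInner_add_left, hc₀, hc₁] at hθW
  rw [show (fun u : ↥(W ⊔ T) => ((A₀ : G → ℂ) + (A₁ : G → ℂ)) u) =
      (fun u : ↥(W ⊔ T) => (A₀ : G → ℂ) u) + (fun u : ↥(W ⊔ T) => (A₁ : G → ℂ) u) from rfl,
    H12.classInner_add_left, hn₀, hn₁] at hθU
  have hW' : (c₀ : ℤ) + c₁ = (Nat.card T : ℤ) + 1 := by exact_mod_cast hθW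
  have hU' : ((n₀ : ℤ) + 1) + ((n₁ : ℤ) + 1) = 2 := by exact_mod_cast hθU
  have hn0 : n₀ = 0 ∧ n₁ = 0 := by omega
  rw [hn0.1, Nat.cast_zero, zero_add, mul_one] at he₀
  rw [hn0.2, Nat.cast_zero, zero_add, mul_one] at he₁
  have hq : (4 : ℤ) ≤ Nat.card T := by exact_mod_cast B.S.four_le
  have hsumδ : δ₀ + δ₁ = 1 := by
    have h : ((Nat.card T : ℤ) - 1) * (δ₀ + δ₁ - 1) = 0 := by linear_combination -he₀ - he₁ - hW'
    rcases mul_eq_zero.1 h with h | h <;> omega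
  have hle₀ : δ₀ ≤ 1 := by
    by_contra hlt
    have : ((Nat.card T : ℤ) - 1) * 2 ≤ ((Nat.card T : ℤ) - 1) * δ₀ :=
      mul_le_mul_of_nonneg_left (by omega) (by omega)
    omega
  have hle₁ : δ₁ ≤ 1 := by
    by_contra hlt
    have : ((Nat.card T : ℤ) - 1) * 2 ≤ ((Nat.card T : ℤ) - 1) * δ₁ :=
      mul_le_mul_of_nonneg_left (by omega) (by omega)
    omega
  -- name the constituent with value one at `t`
  have hθt : θ t = 1 := by
    rw [hθ, B.ind_apply μ hμz ⟨t, B.S.T_le ht⟩, hT t ht, Units.val_one, one_mul,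
      B.perm_invol ht ht1]
  obtain ⟨A, A', hθA', hA, hAt, hA't⟩ : ∃ A A' : IrrCharacter G, θ = (A : G → ℂ) + (A' : G → ℂ) ∧
      classInner θ (A : G → ℂ) = 1 ∧ (A : G → ℂ) t = 1 ∧ (A' : G → ℂ) t = 0 := by
    have hval : (A₀ : G → ℂ) t + (A₁ : G → ℂ) t = 1 := by rw [← hθt, hθA]; rfl
    by_cases hd : δ₀ = 1
    · have e : (A₀ : G → ℂ) t = 1 := by
        rcases hd₀ with h | h
        · omega
        · rw [h, hd, Int.cast_one]
      exact ⟨A₀, A₁, hθA, h0, e, by linear_combination hval - e⟩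
    · have hd' : δ₁ = 1 := by omega
      have e : (A₁ : G → ℂ) t = 1 := by
        rcases hd₁ with h | h
        · omega
        · rw [h, hd', Int.cast_one]
      exact ⟨A₁, A₀, hθA.trans (add_comm _ _), h1, e, by linear_combination hval - e⟩
  -- the permutation character
  have hlin1 : (fun _ : H => (1 : ℂ)) = lin (1 : H →* ℂˣ) := rfl
  have hπch : IsCharacter G (perm H) := H12.IsCharacter.indFun
    (H12.isCharacter_of_isIrrCharacter H12.isIrrCharacter_one)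
  have hπ1 : classInner (perm H) (H12.oneIrr G : G → ℂ) = 1 := by
    rw [perm, H12.classInner_indFun H _ (H12.irr_isClassFunction _)]
    exact H12.classInner_irr_self (H12.oneIrr H)
  obtain ⟨ψ, hπψ⟩ : ∃ ψ : IrrCharacter G, perm H = (H12.oneIrr G : G → ℂ) + (ψ : G → ℂ) := by
    obtain ⟨P₀, P₁, hne, hP, -, -⟩ := exists_two_irr hπch (by
      rw [perm, hlin1]
      exact B.norm_ind 1 fun _ _ => rfl)
    rw [hP, H12.classInner_add_left, H12.classInner_irr, H12.classInner_irr] at hπ1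
    by_cases e : P₀ = H12.oneIrr G
    · exact ⟨P₁, e ▸ hP⟩
    · by_cases e' : P₁ = H12.oneIrr G
      · exact ⟨P₀, (e' ▸ hP).trans (add_comm _ _)⟩
      · simp [e, e'] at hπ1
  have hψt : (ψ : G → ℂ) t = 0 := by
    have h := congrFun hπψ t
    rw [B.perm_invol ht ht1, Pi.add_apply, H12.oneIrr_apply] at h
    linear_combination -h
  -- the class product identity
  have hA1 : (A : G → ℂ) 1 = 1 := by
    have hz0 : ∑ a : G, θ (t * (a * t * a⁻¹)) - ∑ a : G, perm H (t * (a * t * a⁻¹)) = 0 := by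
      rw [← Finset.sum_sub_distrib]
      refine Finset.sum_eq_zero fun a _ => ?_
      rw [hθ, B.ind_product μ hμz hT hodd ht2 (H67.invol_conj ht2 a), sub_self]
    simp only [hθA', hπψ, Pi.add_apply, Finset.sum_add_distrib, H12.irr_class_product,
      H12.oneIrr_apply, hAt, hA't, hψt, mul_zero, zero_div, add_zero, mul_one, Finset.sum_const, Finset.card_univ, nsmul_eq_mul,
      ← Nat.card_eq_fintype_card] at hz0
    have hG : (Nat.card G : ℂ) ≠ 0 := by exact_mod_cast Nat.card_pos.ne'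
    rw [sub_eq_zero, div_eq_iff (H12.irr_apply_one_ne_zero A)] at hz0
    exact mul_left_cancel₀ hG (by rw [mul_one]; exact hz0.symm)
  obtain ⟨f, hf⟩ := H12.exists_monoidHom_of_apply_one_eq_one (H12.isCharacter_irr A) hA1
  have hfH : f.comp H.subtype = μ := by
    refine H12.linIrr_injective (by_contra fun hne => ?_)
    have h := H12.classInner_irr_ne hne
    have e : (H12.linIrr (f.comp H.subtype) : H → ℂ) = fun h : H => (A : G → ℂ) h := by
      funext h; exact congrFun hf (h : G)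
    rw [e, ← H12.conj_classInner,
      show (H12.linIrr μ : H → ℂ) = lin μ from rfl,
      ← H12.classInner_indFun H (lin μ) (H12.irr_isClassFunction A), ← hθ, hA, map_one] at h
    exact one_ne_zero h
  have hfμ : ∀ (x : G) (hx : x ∈ H), f x = μ ⟨x, hx⟩ := fun x hx =>
    congrArg (fun g : H →* ℂˣ => g ⟨x, hx⟩) hfH
  have hfT : ∀ s ∈ T, f s = 1 := fun s hs => by rw [hfμ s (B.S.T_le hs), hT s hs]
  have hfz : f z = 1 := by
    obtain ⟨g, hg⟩ := isConj_iff.1 (H67.se_isConj B.S.se ht2 B.z2)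
    rw [← hg, map_mul, map_mul, map_inv, hfT t ht, mul_one, mul_inv_cancel]
  have hNtop : f.ker ≠ ⊤ := fun e => hμk (by
    rw [← hfμ k (B.D_le hk.1)]
    exact MonoidHom.mem_ker.1 (e ▸ Subgroup.mem_top k))
  have hloc := (B.local_good hNtop (MonoidHom.mem_ker.2 hfz) B.zH (one_mem W) fun s hs => by
    rw [one_mul, inv_one, mul_one]; exact MonoidHom.mem_ker.2 (hfT s hs)).1
  have hker : ∀ x ∈ W, f x = 1 → x = 1 := by
    intro x hx hfx
    refine eq_one_of_core B fun g => ?_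
    by_cases hg : g ∈ H
    · exact mul_mem (mul_mem hg (B.S.W_le hx)) (inv_mem hg)
    · obtain ⟨a, ha, b, hb, rfl⟩ := B.exists_decomp hg
      have hy : f (b * x * b⁻¹) = 1 := by
        rw [map_mul, map_mul, map_inv, hfx, mul_one, mul_inv_cancel]
      have h := hloc _ (MonoidHom.mem_ker.2 hy) (B.S.W_conj b hb x hx) z (MonoidHom.mem_ker.2 hfz)
      rw [show a * z * b * x * (a * z * b)⁻¹ = a * (z * (b * x * b⁻¹) * z⁻¹) * a⁻¹ by group]
      exact mul_mem (mul_mem ha h) (inv_mem ha)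
  have hab : ∀ x ∈ W, ∀ y ∈ W, x * y = y * x := fun x hx y hy => by
    have h := hker (x * y * x⁻¹ * y⁻¹)
      (mul_mem (mul_mem (mul_mem hx hy) (inv_mem hx)) (inv_mem hy))
      (by rw [map_mul, map_mul, map_mul, map_inv, map_inv, mul_right_comm (f x), mul_inv_cancel,
        one_mul, mul_inv_cancel])
    rwa [mul_inv_eq_one, mul_inv_eq_iff_eq_mul] at h
  have hk1 : k ≠ 1 := fun e => hμk (by
    rw [show (⟨k, B.D_le hk.1⟩ : H) = 1 from Subtype.ext e, map_one])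
  refine hk1 (eq_one_of_core B fun g => ?_)
  by_cases hg : g ∈ H
  · exact mul_mem (mul_mem hg (B.S.W_le hk.2)) (inv_mem hg)
  · obtain ⟨a, ha, b, hb, rfl⟩ := B.exists_decomp hg
    have hw := B.S.W_conj b hb k hk.2
    have hwK := B.cent_W_le hk hk1 hw (hab _ hw k hk.2)
    rw [show a * z * b * k * (a * z * b)⁻¹ = a * (z * (b * k * b⁻¹) * z⁻¹) * a⁻¹ by group,
      B.comm_z hwK, mul_inv_cancel_right]
    exact mul_mem (mul_mem ha (B.S.W_le hw)) (inv_mem ha)

end Base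

end H64.SEP
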