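import Cfsg.Agent.H64.SEP.Mu
import Cfsg.Agent.H12.Induction

/-!
The characters induced from linear characters of `H` (helper64).
-/

set_option autoImplicit false
set_option linter.style.haveILetI false
set_option linter.unusedSectionVars false

open Cfsg
open scoped ComplexConjugate

namespace H64.SEP

open Subgroup

universe u

variable {G : Type u} [Group G] [Fintype G] {H W T : Subgroup G} {z : G}

/-- A linear character of `H` as a function. -/
noncomputable abbrev lin (μ : H →* ℂˣ) : H → ℂ := fun h => (μ h : ℂ)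

/-- The permutation character on the points. -/
noncomputable abbrev perm (H : Subgroup G) : G → ℂ := indFun H (fun _ => 1)

theorem conj_mem_iff (g x : G) :
    x⁻¹ * g * x ∈ H ↔ g • (x : G ⧸ H) = (x : G ⧸ H) := by
  rw [← smul_pa_iff, ← smul_pa H x, mul_smul, mul_smul, inv_smul_eq_iff]

open Classical in
theorem perm_apply (g : G) :
    perm H g = (Nat.card H : ℂ)⁻¹ * ∑ x : G, if g • (x : G ⧸ H) = (x : G ⧸ H) then 1 else 0 := by
  rw [perm, H12.indFun_apply]
  congr 1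
  refine Finset.sum_congr rfl fun x _ => ?_
  rw [H12.extendByZero_eq_dite]
  by_cases h : x⁻¹ * g * x ∈ H
  · rw [dif_pos h, if_pos ((conj_mem_iff g x).1 h)]
  · rw [dif_neg h, if_neg (mt (conj_mem_iff g x).2 h)]

theorem conj_perm (g : G) : conj (perm H g) = perm H g := by
  classical
  simp only [perm_apply, map_mul, map_inv₀, map_natCast, map_sum]
  congr 1
  refine Finset.sum_congr rfl fun x _ => ?_
  split_ifs <;> simp

omit [Fintype G] in
theorem conj_val {X : Type*} [Group X] [Finite X] (f : X →* ℂˣ) (x : X) :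
    (f x : ℂ) * conj (f x : ℂ) = 1 := by
  rw [Complex.mul_conj', H12.norm_eq_one_of_pow_eq_one (n := Nat.card X) Nat.card_pos.ne'
    (by rw [← Units.val_pow_eq_pow_val, ← map_pow, pow_card_eq_one', map_one, Units.val_one])]
  simp

namespace Base

variable (B : Base G H W T z)
include B

theorem card_stab {U : Subgroup G} (hU : U ≤ H) {h : G} (hh : h ∈ H)
    (hn : h ∈ Subgroup.normalizer (U : Set G)) :
    Nat.card {u : U // (u : G) • (h • pb H z) = h • pb H z} = Nat.card ↥(U ⊓ Dz H z) := by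
  refine Nat.card_congr
    { toFun := fun u => ⟨h⁻¹ * (u.1 : G) * h, (Subgroup.mem_normalizer_iff''.1 hn _).1 u.1.2,
        (smul_pa_iff H).2 (mul_mem (mul_mem (inv_mem hh) (hU u.1.2)) hh), by
          show (h⁻¹ * (u.1 : G) * h) • pb H z = pb H z
          rw [mul_smul, mul_smul, u.2, inv_smul_smul]⟩
      invFun := fun v => ⟨⟨h * (v : G) * h⁻¹, (Subgroup.mem_normalizer_iff.1 hn _).1 v.2.1⟩, by
          show (h * (v : G) * h⁻¹) • h • pb H z = h • pb H z
          rw [mul_smul, inv_smul_smul, mul_smul, show (v : G) • pb H z = pb H z from v.2.2.2]⟩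
      left_inv := fun u => Subtype.ext (Subtype.ext (by
        show h * (h⁻¹ * (u.1 : G) * h) * h⁻¹ = u.1
        group))
      right_inv := fun v => Subtype.ext (by
        show h⁻¹ * (h * (v : G) * h⁻¹) * h = v
        group) }

theorem card_orbit {U : Subgroup G} (hU : U ≤ H)
    (htr : ∀ c : G ⧸ H, c ≠ pa H → ∃ u ∈ U, u • pb H z = c) :
    Nat.card ↥(U ⊓ Dz H z) * (H.index - 1) = Nat.card U := by
  classical
  haveI : Fintype (G ⧸ H) := Fintype.ofFinite _
  have horb : MulAction.orbit U (pb H z) = {pa H}ᶜ := by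
    ext c
    constructor
    · rintro ⟨u, rfl⟩ he
      exact B.pb_ne (MulAction.injective (u : G)
        ((Set.mem_singleton_iff.1 he).trans ((smul_pa_iff H).2 (hU u.2)).symm))
    · intro hc
      obtain ⟨u, hu, hc⟩ := htr c hc
      exact ⟨⟨u, hu⟩, hc⟩
  have h1 := Nat.card_congr (MulAction.orbitProdStabilizerEquivGroup U (pb H z))
  rw [Nat.card_prod] at h1
  have h2 : Nat.card (MulAction.orbit U (pb H z)) = H.index - 1 := by
    rw [horb, Nat.card_coe_set_eq, Set.ncard_compl, Set.ncard_singleton, Subgroup.index_eq_card]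
  have h3 : Nat.card (MulAction.stabilizer U (pb H z)) = Nat.card ↥(U ⊓ Dz H z) := by
    refine Nat.card_congr
      { toFun := fun u => ⟨u.1, u.1.2, (smul_pa_iff H).2 (hU u.1.2), u.2⟩
        invFun := fun v => ⟨⟨v, v.2.1⟩, v.2.2.2⟩
        left_inv := fun u => rfl
        right_inv := fun v => rfl }
  rw [← h1, h2, h3, Nat.mul_comm]

theorem sum_perm {U : Subgroup G} [Fintype U] (hU : U ≤ H) {k : ℕ}
    (hk : ∀ c : G ⧸ H, c ≠ pa H → Nat.card {u : U // (u : G) • c = c} = k) :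
    ∑ u : U, perm H (u : G) = (Nat.card U : ℂ) + ((H.index : ℂ) - 1) * k := by
  classical
  simp only [perm_apply]
  rw [← Finset.mul_sum, Finset.sum_comm]
  have hx : ∀ x : G, (∑ u : U, if (u : G) • (x : G ⧸ H) = (x : G ⧸ H) then (1 : ℂ) else 0) =
      if x ∈ H then (Nat.card U : ℂ) else (k : ℂ) := by
    intro x
    split_ifs with hxH
    · rw [Finset.sum_congr rfl (g := fun _ => (1 : ℂ)) fun u _ => if_pos (by
        rw [← smul_pa H x, (smul_pa_iff H).2 hxH]
        exact (smul_pa_iff H).2 (hU u.2))]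
      simp [Nat.card_eq_fintype_card]
    · rw [Finset.sum_boole, ← hk (x : G ⧸ H) (fun e => hxH (by
        rwa [← smul_pa_iff, smul_pa])), Nat.card_eq_fintype_card, Fintype.card_subtype]
  simp only [hx]
  rw [Finset.sum_ite, Finset.sum_const, Finset.sum_const, nsmul_eq_mul, nsmul_eq_mul]
  have h1 : (Finset.univ.filter fun x : G => x ∈ H).card = Nat.card H := by
    rw [Nat.card_eq_fintype_card, Fintype.card_subtype]
  have h2 := Finset.card_filter_add_card_filter_not (s := (Finset.univ : Finset G))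
    (fun x : G => x ∈ H)
  rw [h1, Finset.card_univ, ← Nat.card_eq_fintype_card, ← H.card_mul_index] at h2
  have h3 : ((Finset.univ.filter fun x : G => ¬ x ∈ H).card : ℂ) =
      (Nat.card H : ℂ) * ((H.index : ℂ) - 1) := by
    have := congrArg (Nat.cast : ℕ → ℂ) h2
    push_cast at this
    linear_combination this
  rw [h1, h3]
  have hH : (Nat.card H : ℂ) ≠ 0 := by exact_mod_cast Nat.card_pos.ne'
  field_simp

theorem index_cast : ((H.index - 1 : ℕ) : ℂ) = (H.index : ℂ) - 1 := by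
  rw [Nat.cast_sub (Nat.pos_of_ne_zero H.index_ne_zero_of_finite), Nat.cast_one]

theorem exists_H_smul : ∀ c : G ⧸ H, c ≠ pa H → ∃ u ∈ H, u • pb H z = c := fun _ hc =>
  B.exists_t_conj_smul hc

/-- The sum of the permutation character over `H`. -/
theorem sum_perm_H [Fintype H] : ∑ h : H, perm H (h : G) = 2 * (Nat.card H : ℂ) := by
  rw [B.sum_perm le_rfl (k := Nat.card ↥(H ⊓ Dz H z)) fun c hc => ?_]
  · have := congrArg (Nat.cast : ℕ → ℂ) (B.card_orbit le_rfl B.exists_H_smul)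
    rw [Nat.cast_mul, B.index_cast] at this
    linear_combination this
  · obtain ⟨h, hh, rfl⟩ := B.exists_H_smul c hc
    exact B.card_stab le_rfl hh (Subgroup.le_normalizer hh)

theorem sup_inf_D : (W ⊔ T) ⊓ Dz H z = W ⊓ Dz H z :=
  le_antisymm (fun _ hg => ⟨B.S.mem_W_of_odd hg.1 (B.odd_of_mem_D hg.2), hg.2⟩)
    (inf_le_inf_right _ le_sup_left)

theorem mem_normalizer_sup {h : G} (hh : h ∈ H) : h ∈ Subgroup.normalizer ((W ⊔ T : Subgroup G) : Set G) := by
  refine H82.mem_normalizer_of_map_le ?_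
  rw [Subgroup.map_sup]
  refine sup_le_sup ?_ ?_
  · rintro _ ⟨w, hw, rfl⟩; exact B.S.W_conj h hh w hw
  · rintro _ ⟨s, hs, rfl⟩; exact B.T_conj hh hs

theorem mem_normalizer_W {h : G} (hh : h ∈ H) : h ∈ Subgroup.normalizer (W : Set G) := by
  refine H82.mem_normalizer_of_map_le ?_
  rintro _ ⟨w, hw, rfl⟩
  exact B.S.W_conj h hh w hw

variable (hK : Dz H z ⊓ W ≠ ⊥)
include hK

theorem exists_sup_smul (c : G ⧸ H) (hc : c ≠ pa H) : ∃ u ∈ W ⊔ T, u • pb H z = c := by
  obtain ⟨h, hh, rfl⟩ := B.exists_H_smul c hc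
  obtain ⟨t, ht, ht1⟩ := B.exists_t
  obtain ⟨d, hd, hdt⟩ := B.exists_D_conj (B.S.T_le ht) (B.S.orderOf_two ht ht1)
    (mul_mem (mul_mem hh (B.S.T_le ht)) (inv_mem hh)) (H67.invol_conj (B.S.orderOf_two ht ht1) h)
  have htr : Triv W T (d⁻¹ * h) := by
    refine B.triv_of_commute (mul_mem (inv_mem (B.D_le hd)) hh) (B.S.T_le ht)
      (B.S.orderOf_two ht ht1) ?_
    calc d⁻¹ * h * t = d⁻¹ * (h * t * h⁻¹) * h := by group
      _ = d⁻¹ * (d * t * d⁻¹) * h := by rw [hdt]
      _ = t * (d⁻¹ * h) := by group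
  have h1 := B.triv_le hK (mul_mem (inv_mem (B.D_le hd)) hh) htr
  refine ⟨d * (d⁻¹ * h) * d⁻¹,
    (Subgroup.mem_normalizer_iff.1 (B.mem_normalizer_sup (B.D_le hd)) _).1 h1, ?_⟩
  rw [mul_inv_cancel_left, mul_smul,
    inv_smul_eq_iff.2 (show d • pb H z = pb H z from hd.2).symm]

theorem card_K_index : Nat.card ↥(W ⊓ Dz H z) * (H.index - 1) = Nat.card W * Nat.card T := by
  rw [← B.sup_inf_D, B.card_orbit B.S.sup_le_H (B.exists_sup_smul hK), B.S.card_sup]

theorem sum_perm_sup [Fintype ↥(W ⊔ T)] :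
    ∑ u : ↥(W ⊔ T), perm H (u : G) = 2 * (Nat.card ↥(W ⊔ T) : ℂ) := by
  rw [B.sum_perm B.S.sup_le_H (k := Nat.card ↥((W ⊔ T) ⊓ Dz H z)) fun c hc => ?_]
  · have := congrArg (Nat.cast : ℕ → ℂ) (B.card_orbit B.S.sup_le_H (B.exists_sup_smul hK))
    rw [Nat.cast_mul, B.index_cast] at this
    linear_combination this
  · obtain ⟨h, hh, rfl⟩ := B.exists_sup_smul hK c hc
    exact B.card_stab B.S.sup_le_H (B.S.sup_le_H hh) (Subgroup.le_normalizer hh)

theorem sum_perm_W [Fintype W] :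
    ∑ u : W, perm H (u : G) = (Nat.card W : ℂ) * ((Nat.card T : ℂ) + 1) := by
  rw [B.sum_perm B.S.W_le (k := Nat.card ↥(W ⊓ Dz H z)) fun c hc => ?_]
  · have := congrArg (Nat.cast : ℕ → ℂ) (B.card_K_index hK)
    rw [Nat.cast_mul, Nat.cast_mul, B.index_cast] at this
    linear_combination this
  · obtain ⟨h, hh, rfl⟩ := B.exists_H_smul c hc
    exact B.card_stab B.S.W_le hh (B.mem_normalizer_W hh)

omit hK

variable (μ : H →* ℂˣ)
  (hμz : ∀ (x : G) (hx : x ∈ Dz H z),
    μ ⟨z * x * z, B.D_le (B.inv_mem_D_conj hx)⟩ = μ ⟨x, B.D_le hx⟩)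
include hμz

/-- `μ` does not distinguish elements of `H` conjugate in `G`. -/
theorem mu_fusion {g x : G} (hg : g ∈ H) (h : x⁻¹ * g * x ∈ H) :
    μ ⟨x⁻¹ * g * x, h⟩ = μ ⟨g, hg⟩ := by
  by_cases hx : x ∈ H
  · rw [show (⟨x⁻¹ * g * x, h⟩ : H) = (⟨x, hx⟩ : H)⁻¹ * ⟨g, hg⟩ * ⟨x, hx⟩ from Subtype.ext rfl,
      map_mul, map_mul, map_inv, mul_right_comm, inv_mul_cancel, one_mul]
  · obtain ⟨k, hk, hc⟩ := B.exists_H_smul (x • pa H) fun e => hx ((smul_pa_iff H).1 e)
    have hgc : g • k • pb H z = k • pb H z := by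
      rw [hc, smul_pa]; exact (conj_mem_iff g x).1 h
    have hd : k⁻¹ * g * k ∈ Dz H z := by
      refine ⟨(smul_pa_iff H).2 (mul_mem (mul_mem (inv_mem hk) hg) hk), ?_⟩
      show (k⁻¹ * g * k) • pb H z = pb H z
      rw [mul_smul, mul_smul, hgc, inv_smul_smul]
    have hk' : (k * z)⁻¹ * x ∈ H := by
      rw [← smul_pa_iff, mul_smul, ← hc, mul_inv_rev, mul_smul, inv_smul_smul,
        H70.inv_eq_self_of_two B.z2, B.z_smul_pb]
    rw [show (⟨x⁻¹ * g * x, h⟩ : H) = (⟨_, hk'⟩ : H)⁻¹ *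
        ⟨z * (k⁻¹ * g * k) * z, B.D_le (B.inv_mem_D_conj hd)⟩ * ⟨_, hk'⟩ from Subtype.ext (by
          show x⁻¹ * g * x =
            ((k * z)⁻¹ * x)⁻¹ * (z * (k⁻¹ * g * k) * z) * ((k * z)⁻¹ * x)
          rw [mul_inv_rev, inv_inv, mul_inv_rev, H70.inv_eq_self_of_two B.z2,
            show x⁻¹ * (k * z) * (z * (k⁻¹ * g * k) * z) * (z * k⁻¹ * x) =
              x⁻¹ * (k * (z * z)) * k⁻¹ * g * k * (z * z) * k⁻¹ * x by group, B.zz]
          group),
      map_mul, map_mul, map_inv, mul_right_comm, inv_mul_cancel, one_mul, hμz _ hd,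
      show (⟨k⁻¹ * g * k, B.D_le hd⟩ : H) = (⟨k, hk⟩ : H)⁻¹ * ⟨g, hg⟩ * ⟨k, hk⟩ from Subtype.ext rfl,
      map_mul, map_mul, map_inv, mul_right_comm, inv_mul_cancel, one_mul]

/-- On `H` the induced character is `μ` times the permutation character. -/
theorem ind_apply (g : H) : indFun H (lin μ) (g : G) = (μ g : ℂ) * perm H (g : G) := by
  classical
  rw [H12.indFun_apply, perm, H12.indFun_apply, mul_left_comm, Finset.mul_sum _ _ (μ g : ℂ)]
  congr 1
  refine Finset.sum_congr rfl fun x _ => ?_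
  simp only [H12.extendByZero_eq_dite]
  by_cases h : x⁻¹ * (g : G) * x ∈ H
  · rw [dif_pos h, dif_pos h, mul_one]
    exact congrArg Units.val (B.mu_fusion μ hμz g.2 h)
  · rw [dif_neg h, dif_neg h, mul_zero]

/-- The norm of the induced character. -/
theorem norm_ind [Fintype H] :
    classInner (indFun H (lin μ)) (indFun H (lin μ)) = 2 := by
  rw [H12.classInner_indFun H (lin μ) (H12.indFun_isClassFunction _ _), H12.classInner_def]
  rw [Finset.sum_congr rfl (g := fun h : H => perm H (h : G)) fun h _ => by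
    rw [B.ind_apply μ hμz h, map_mul, ← mul_assoc, conj_val μ h, one_mul, conj_perm],
    B.sum_perm_H, ← mul_assoc, mul_comm _ (2 : ℂ), mul_assoc,
    inv_mul_cancel₀ (by exact_mod_cast Nat.card_pos.ne'), mul_one]

variable (hT : ∀ (s : G) (hs : s ∈ T), μ ⟨s, B.S.T_le hs⟩ = 1)
  (hodd : ∀ h : H, ∃ n : ℕ, Odd n ∧ μ h ^ n = 1)
include hT hodd

/-- `μ` is trivial on the products of two involutions. -/
theorem mu_product {a b : G} (ha : orderOf a = 2) (hb : orderOf b = 2) (hg : a * b ∈ H) :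
    μ ⟨a * b, hg⟩ = 1 := by
  by_cases haH : a ∈ H
  · have hbH : b ∈ H := by
      have := mul_mem (inv_mem haH) hg
      rwa [inv_mul_cancel_left] at this
    exact hT _ (mul_mem (B.invol_mem_T haH ha) (B.invol_mem_T hbH hb))
  · obtain ⟨k, hk, hc⟩ := B.exists_H_smul (a • pa H) fun e => haH ((smul_pa_iff H).1 e)
    obtain ⟨a', ha'⟩ : ∃ a', a' = k⁻¹ * a * k := ⟨_, rfl⟩
    obtain ⟨b', hb'⟩ : ∃ b', b' = k⁻¹ * b * k := ⟨_, rfl⟩
    have haa : a' * a' = 1 := by
      rw [ha', show k⁻¹ * a * k * (k⁻¹ * a * k) = k⁻¹ * (a * a) * k by group,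
        H70.mul_self_of_two ha, mul_one, inv_mul_cancel]
    have hbb : b' * b' = 1 := by
      rw [hb', show k⁻¹ * b * k * (k⁻¹ * b * k) = k⁻¹ * (b * b) * k by group,
        H70.mul_self_of_two hb, mul_one, inv_mul_cancel]
    have h1 : a' • pa H = pb H z := by
      rw [ha', mul_smul, mul_smul, (smul_pa_iff H).2 hk, ← hc, inv_smul_smul]
    have h2 : a' • pb H z = pa H := by rw [← h1, ← mul_smul, haa, one_smul]
    obtain ⟨y, hy⟩ : ∃ y, y = z * a' := ⟨_, rfl⟩
    have hyD : y ∈ Dz H z := ⟨by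
        show y • pa H = pa H
        rw [hy, mul_smul, h1, B.z_smul_pb], by
        show y • pb H z = pb H z
        rw [hy, mul_smul, h2, B.z_smul_pa]⟩
    obtain ⟨d, hd⟩ : ∃ d, d = a' * b' := ⟨_, rfl⟩
    have hdH : d ∈ H := by
      rw [hd, ha', hb', show k⁻¹ * a * k * (k⁻¹ * b * k) = k⁻¹ * (a * b) * k by group]
      exact mul_mem (mul_mem (inv_mem hk) hg) hk
    have hinvd : a' * d * a' = d⁻¹ := by
      rw [hd, ← mul_assoc, haa, one_mul, mul_inv_rev, inv_eq_of_mul_eq_one_right hbb,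
        inv_eq_of_mul_eq_one_right haa]
    have hdpa : d • pa H = pa H := (smul_pa_iff H).2 hdH
    have hdb : d • pb H z = pb H z := by
      have h3 : a' • d • a' • pa H = pa H := by
        rw [← mul_smul, ← mul_smul, hinvd, inv_smul_eq_iff, hdpa]
      rw [h1, ← h2] at h3
      exact MulAction.injective a' h3
    have hdD : d ∈ Dz H z := ⟨hdpa, hdb⟩
    have hydD : y * d * y⁻¹ ∈ Dz H z :=
      (Dz H z).mul_mem ((Dz H z).mul_mem hyD hdD) ((Dz H z).inv_mem hyD)
    have heq : μ ⟨d⁻¹, inv_mem hdH⟩ = μ ⟨d, hdH⟩ := by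
      have e : d⁻¹ = z * (y * d * y⁻¹) * z := by
        rw [← hinvd, hy, mul_inv_rev, H70.inv_eq_self_of_two B.z2, inv_eq_of_mul_eq_one_right haa,
          show z * (z * a' * d * (a' * z)) * z = z * z * a' * d * a' * (z * z) by group, B.zz,
          one_mul, mul_one]
      rw [show (⟨d⁻¹, inv_mem hdH⟩ : H) = ⟨z * (y * d * y⁻¹) * z, B.D_le (B.inv_mem_D_conj hydD)⟩
          from Subtype.ext e, hμz _ hydD,
        show (⟨y * d * y⁻¹, B.D_le hydD⟩ : H) =
          (⟨y, B.D_le hyD⟩ : H) * ⟨d, hdH⟩ * (⟨y, B.D_le hyD⟩ : H)⁻¹ from Subtype.ext rfl,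
        map_mul, map_mul, map_inv, mul_right_comm, mul_inv_cancel, one_mul]
    have h4 : μ ⟨d, hdH⟩ = 1 := by
      obtain ⟨n, hn, hpow⟩ := hodd ⟨d, hdH⟩
      refine Base.eq_one_of_sq_of_odd hn ?_ hpow
      nth_rewrite 2 [← heq]
      rw [← map_mul, show (⟨d, hdH⟩ : H) * ⟨d⁻¹, inv_mem hdH⟩ = 1 from
        Subtype.ext (mul_inv_cancel d), map_one]
    rw [show (⟨a * b, hg⟩ : H) = ⟨k, hk⟩ * ⟨d, hdH⟩ * (⟨k, hk⟩ : H)⁻¹ from Subtype.ext (by
      show a * b = k * d * k⁻¹
      rw [hd, ha', hb']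
      group), map_mul, map_mul, map_inv, mul_right_comm, mul_inv_cancel, one_mul, h4]

/-- The induced character is the permutation character on products of two involutions. -/
theorem ind_product {a b : G} (ha : orderOf a = 2) (hb : orderOf b = 2) :
    indFun H (lin μ) (a * b) = perm H (a * b) := by
  classical
  rw [perm, H12.indFun_apply, H12.indFun_apply]
  congr 1
  refine Finset.sum_congr rfl fun x _ => ?_
  simp only [H12.extendByZero_eq_dite]
  split_ifs with h
  · have e : x⁻¹ * (a * b) * x = (x⁻¹ * a * x) * (x⁻¹ * b * x) := by group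
    have h' : (x⁻¹ * a * x) * (x⁻¹ * b * x) ∈ H := e ▸ h
    show ((μ ⟨x⁻¹ * (a * b) * x, h⟩ : ℂˣ) : ℂ) = 1
    rw [show (⟨x⁻¹ * (a * b) * x, h⟩ : H) = ⟨_, h'⟩ from Subtype.ext e,
      B.mu_product μ hμz hT hodd ?_ ?_ h', Units.val_one]
    · simpa using (H67.invol_conj ha x⁻¹)
    · simpa using (H67.invol_conj hb x⁻¹)
  · rfl

end Base

end H64.SEP
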