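import Cfsg.Agent.H64.SEP.Central
import Cfsg.Agent.H1.CoprimeAction
import Cfsg.Agent.H5.Burnside

/-!
The kernel `D ∩ W` of the two-point stabiliser on `T` (helper64).
-/

set_option autoImplicit false
set_option linter.style.haveILetI false
set_option linter.unusedSectionVars false

namespace H64.SEP

open Subgroup

universe u

variable {G : Type u} [Group G] [Finite G] {H W T : Subgroup G} {z : G}

namespace Base

variable (B : Base G H W T z)
include B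

theorem comm_WT {w s : G} (hw : w ∈ W) (hs : s ∈ T) : s * w = w * s := by
  by_cases h1 : s = 1
  · rw [h1, one_mul, mul_one]
  · exact B.comm_TW (B.S.T_le hs) (B.S.orderOf_two hs h1) hw

theorem invol_mem_T {i : G} (hiH : i ∈ H) (hi : orderOf i = 2) : i ∈ T := by
  obtain ⟨s, hs, -, w, hw, rfl⟩ := B.S.exists_conj_T hiH hi
  rwa [← B.comm_WT hw hs, mul_inv_cancel_right]

theorem T_conj {h s : G} (hh : h ∈ H) (hs : s ∈ T) : h * s * h⁻¹ ∈ T := by
  by_cases h1 : s = 1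
  · rw [h1, mul_one, mul_inv_cancel]; exact one_mem _
  · exact B.invol_mem_T (mul_mem (mul_mem hh (B.S.T_le hs)) (inv_mem hh))
      (H67.invol_conj (B.S.orderOf_two hs h1) h)

theorem triv_iff {h : G} (hh : h ∈ H) : Triv W T h ↔ ∀ s ∈ T, h * s = s * h := by
  constructor
  · intro H1 s hs
    exact mul_inv_eq_iff_eq_mul.1 (B.S.eq_of_mul_mem (B.T_conj hh hs) hs (H1 s hs))
  · intro H1 s hs
    rw [H1 s hs, mul_inv_cancel_right, B.S.T_sq s hs]
    exact one_mem _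

theorem triv_of_commute {h i : G} (hh : h ∈ H) (hiH : i ∈ H) (hi : orderOf i = 2)
    (hc : h * i = i * h) : Triv W T h := by
  refine B.S.act h hh i (B.invol_mem_T hiH hi) (fun e => ?_) ?_
  · rw [e, orderOf_one] at hi; omega
  · rw [hc, mul_inv_cancel_right, H70.mul_self_of_two hi]
    exact one_mem _

/-- An odd element of `H` commuting with an involution of `H` lies in `W`. -/
theorem mem_W_of_commute {h i : G} (hh : h ∈ H) (ho : Odd (orderOf h)) (hiH : i ∈ H)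
    (hi : orderOf i = 2) (hc : h * i = i * h) : h ∈ W :=
  B.S.odd_act h hh ho (B.triv_of_commute hh hiH hi hc)

theorem zz : z * z = 1 := H70.mul_self_of_two B.z2

theorem z_conj_mem {x i : G} (hx : x ∈ Dz H z) (hi : orderOf i = 2) (hib : i • pb H z = pb H z)
    (hc : x * i = i * x) : z * x * z ∈ W := by
  have hzi : z * i * z⁻¹ ∈ H := by
    rw [← smul_pa_iff, H70.inv_eq_self_of_two B.z2, mul_smul, mul_smul, B.z_smul_pa, hib,
      B.z_smul_pb]
  refine B.mem_W_of_commute (B.D_le (B.inv_mem_D_conj hx)) (B.odd_of_mem_D (B.inv_mem_D_conj hx))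
    hzi (H67.invol_conj hi z) ?_
  rw [H70.inv_eq_self_of_two B.z2,
    show z * x * z * (z * i * z) = z * x * (z * z) * i * z by group, B.zz, mul_one,
    show z * i * z * (z * x * z) = z * i * (z * z) * x * z by group, B.zz, mul_one,
    mul_assoc z x i, mul_assoc z i x, hc]

theorem smul_pb_ne {s : G} (hs : s ∈ T) (h1 : s ≠ 1) :
    s • pb H z ≠ pb H z ∧ s • pb H z ≠ pa H := by
  have hsa : s • pa H = pa H := (smul_pa_iff H).2 (B.S.T_le hs)
  refine ⟨fun e => B.pb_ne (B.fix_unique (B.S.orderOf_two hs h1) e hsa), fun e => ?_⟩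
  exact B.pb_ne (MulAction.injective s (e.trans hsa.symm))

theorem fix_T {x s : G} (hxD : x ∈ Dz H z) (hxW : x ∈ W) (hs : s ∈ T) :
    x • s • pb H z = s • pb H z := by
  rw [← mul_smul, ← B.comm_WT hxW hs, mul_smul, show x • pb H z = pb H z from hxD.2]

/-- Sylow subgroups of `D` inside `W` centralise involutions fixing `z H`. -/
theorem z_conj_sylow {p : ℕ} [Fact p.Prime] {R : Subgroup G} (hR : H82.SylowIn p R (Dz H z))
    (hRW : R ≤ W) {x : G} (hx : x ∈ R) : z * x * z ∈ W := by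
  obtain ⟨s, hs, hs1⟩ := B.exists_t
  obtain ⟨-, m, hm, hma, -⟩ := B.exists_local hR hRW (B.smul_pb_ne hs hs1).2
    (B.smul_pb_ne hs hs1).1 fun y hy => B.fix_T (hR.le hy) (hRW hy) hs
  refine B.z_conj_mem (hR.le hx) (H67.invol_conj (B.S.orderOf_two hs hs1) m) ?_ ?_
  · rw [← hma, mul_smul, mul_smul, inv_smul_smul, (smul_pa_iff H).2 (B.S.T_le hs)]
  · have h1 : m⁻¹ * x * m ∈ R := (Subgroup.mem_normalizer_iff''.1 hm x).1 hx
    have h2 := B.comm_WT (hRW h1) hs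
    calc x * (m * s * m⁻¹) = m * (m⁻¹ * x * m * s) * m⁻¹ := by group
      _ = m * (s * (m⁻¹ * x * m)) * m⁻¹ := by rw [h2]
      _ = m * s * m⁻¹ * x := by group

theorem zpowers_normalizes_D : zpowers z ≤ Subgroup.normalizer (Dz H z : Set G) := by
  rw [zpowers_le, Subgroup.mem_normalizer_iff]
  refine fun x => ⟨fun hx => ?_, fun hx => ?_⟩
  · rw [H70.inv_eq_self_of_two B.z2]; exact B.inv_mem_D_conj hx
  · have h := B.inv_mem_D_conj hx
    rwa [H70.inv_eq_self_of_two B.z2, show z * (z * x * z) * z = (z * z) * x * (z * z) by group,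
      B.zz, one_mul, mul_one] at h

/-- The Sylow `e`-subgroup. -/
theorem e_part {p : ℕ} [Fact p.Prime] (hp : p = Nat.card T - 1) :
    ∃ R : Subgroup G, R ≤ Dz H z ⊓ W ∧ H82.SylowIn p R W ∧ ∀ x ∈ R, z * x * z ∈ W := by
  classical
  have hcop : (Nat.card (zpowers z)).Coprime (Nat.card (Dz H z)) := by
    rw [Nat.card_zpowers, B.z2]; exact Nat.coprime_two_left.2 B.D_odd
  obtain ⟨E₀, hE₀⟩ := H1.exists_invariant_sylow B.zpowers_normalizes_D hcop
    (Or.inl (Group.isSolvable_of_comm fun a b => mul_comm' a b)) p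
  have hE := H82.sylowIn_of_sylow E₀
  set E := (E₀ : Subgroup (Dz H z)).map (Dz H z).subtype with hEdef
  have hzE : ∀ x ∈ E, z * x * z ∈ E := fun x hx => by
    have h := (Subgroup.mem_normalizer_iff.1 (hE₀ (mem_zpowers z)) x).1 hx
    rwa [H70.inv_eq_self_of_two B.z2] at h
  have htop := B.e_sylow_top hp hE
  have hEH : H82.SylowIn p E H := htop.of_le (hE.le.trans B.D_le) le_top
  set R := E ⊓ W with hRdef
  have hR : H82.SylowIn p R W := by
    refine ⟨inf_le_right, hE.isPGroup.to_le inf_le_left, fun hd => ?_⟩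
    obtain ⟨Q, hQ, hle⟩ := H82.exists_sylowIn_ge (M := W) (hE.isPGroup.to_le inf_le_left)
      (inf_le_right : E ⊓ W ≤ W)
    obtain ⟨h, hh, hQE⟩ := hEH.exists_conj_le hQ.isPGroup (hQ.le.trans B.S.W_le)
    have hQle : Q.map (MulAut.conj h).toMonoidHom ≤ E ⊓ W := by
      refine le_inf hQE ?_
      rintro _ ⟨y, hy, rfl⟩
      exact B.S.W_conj h hh y (hQ.le hy)
    have h1 := Subgroup.card_le_of_le hQle
    rw [H82.card_map_conj] at h1
    rw [hRdef, Subgroup.eq_of_le_of_card_ge hle h1] at hd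
    exact hQ.not_dvd hd
  refine ⟨R, inf_le_inf_right W hE.le, hR, fun x hx => ?_⟩
  set R' := R.map (MulAut.conj z).toMonoidHom with hR'def
  have hR'E : R' ≤ E := by
    rintro _ ⟨y, hy, rfl⟩
    show z * y * z⁻¹ ∈ E
    rw [H70.inv_eq_self_of_two B.z2]; exact hzE y hy.1
  have hzx : z * x * z ∈ R' := ⟨x, hx, by
    show z * x * z⁻¹ = _
    rw [H70.inv_eq_self_of_two B.z2]⟩
  suffices hle : R' ≤ R from (hle hzx).2
  by_contra hnle
  have hRn : ∀ g ∈ E, ∀ r ∈ R, g * r * g⁻¹ ∈ R := fun g hg r hr =>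
    ⟨E.mul_mem (E.mul_mem hg hr.1) (E.inv_mem hg), B.S.W_conj g (B.D_le (hE.le hg)) r hr.2⟩
  have hR'n : ∀ g ∈ E, ∀ r ∈ R', g * r * g⁻¹ ∈ R' := by
    rintro g hg _ ⟨r, hr, rfl⟩
    refine ⟨(z * g * z) * r * (z * g * z)⁻¹, hRn _ (hzE g hg) r hr, ?_⟩
    show z * ((z * g * z) * r * (z * g * z)⁻¹) * z⁻¹ = g * (z * r * z⁻¹) * g⁻¹
    rw [show z * ((z * g * z) * r * (z * g * z)⁻¹) * z⁻¹ =
      (z * z) * g * z * r * z⁻¹ * g⁻¹ * (z * z)⁻¹ by group, B.zz]
    group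
  by_cases hZ : R ⊓ R' = ⊥
  · -- `E` is abelian
    have hexp : ∀ g ∈ E, g ^ p ∈ R ⊓ R' := by
      intro g hg
      refine ⟨⟨pow_mem hg p, ?_⟩, (z * g * z) ^ p, ⟨pow_mem (hzE g hg) p, ?_⟩, ?_⟩
      · rw [hp]; exact (B.pow_mem_K (hE.le hg)).2
      · rw [hp]; exact (B.pow_mem_K (hE.le (hzE g hg))).2
      · show z * (z * g * z) ^ p * z⁻¹ = g ^ p
        rw [← conj_pow, show z * (z * g * z) * z⁻¹ = (z * z) * g * (z * z⁻¹) by group, B.zz,
          one_mul, mul_inv_cancel, mul_one]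
    have hKab : ∀ g ∈ E, ∀ h ∈ E, g * h * g⁻¹ * h⁻¹ ∈ R := by
      intro g hg h hh
      refine ⟨E.mul_mem (E.mul_mem (E.mul_mem hg hh) (E.inv_mem hg)) (E.inv_mem hh), ?_⟩
      haveI := B.K_normal
      have hcard : Nat.card ((Dz H z) ⧸ (Dz H z ⊓ W).subgroupOf (Dz H z)) = Nat.card T - 1 := by
        rw [← Subgroup.index]; exact B.relIndex_K
      haveI : Fact (Nat.card T - 1).Prime := ⟨B.S.prime⟩
      haveI := isCyclic_of_prime_card hcard
      letI := IsCyclic.commGroup (α := (Dz H z) ⧸ (Dz H z ⊓ W).subgroupOf (Dz H z))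
      have hmem : (⟨g, hE.le hg⟩ * ⟨h, hE.le hh⟩ * (⟨g, hE.le hg⟩)⁻¹ * (⟨h, hE.le hh⟩)⁻¹ :
          Dz H z) ∈ (Dz H z ⊓ W).subgroupOf (Dz H z) := by
        rw [← QuotientGroup.eq_one_iff, QuotientGroup.mk_mul, QuotientGroup.mk_mul,
          QuotientGroup.mk_mul, QuotientGroup.mk_inv, QuotientGroup.mk_inv,
          mul_comm (QuotientGroup.mk (⟨g, hE.le hg⟩ : Dz H z))]
        group
      exact (Subgroup.mem_subgroupOf.1 hmem).2
    have hEab : ∀ g ∈ E, ∀ h ∈ E, g * h = h * g := by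
      intro g hg h hh
      have h1 := hKab g hg h hh
      have h2 : g * h * g⁻¹ * h⁻¹ ∈ R' := by
        refine ⟨(z * g * z) * (z * h * z) * (z * g * z)⁻¹ * (z * h * z)⁻¹,
          hKab _ (hzE g hg) _ (hzE h hh), ?_⟩
        show z * ((z * g * z) * (z * h * z) * (z * g * z)⁻¹ * (z * h * z)⁻¹) * z⁻¹ = _
        rw [show z * ((z * g * z) * (z * h * z) * (z * g * z)⁻¹ * (z * h * z)⁻¹) * z⁻¹ =
          (z * z) * g * (z * z) * h * g⁻¹ * (z * z)⁻¹ * h⁻¹ * (z * z)⁻¹ by group, B.zz]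
        group
      have h3 : g * h * g⁻¹ * h⁻¹ ∈ R ⊓ R' := ⟨h1, h2⟩
      rw [hZ, Subgroup.mem_bot] at h3
      exact mul_inv_eq_iff_eq_mul.1 (mul_inv_eq_one.1 h3)
    -- an element of `R` outside the symmetric part
    obtain ⟨r, hr, hr'⟩ := SetLike.not_le_iff_exists.1 hnle
    obtain ⟨r₀, hr₀, hr₀'⟩ := hr
    set v := r₀ * (z * r₀ * z) with hv
    have hzr₀ : z * r₀ * z = r := by
      rw [← hr₀']; show z * r₀ * z = z * r₀ * z⁻¹
      rw [H70.inv_eq_self_of_two B.z2]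
    have hvE : v ∈ E := mul_mem hr₀.1 (hzE _ hr₀.1)
    have hzv : z * v * z = v := by
      rw [hv, show z * (r₀ * (z * r₀ * z)) * z = z * r₀ * z * r₀ * (z * z) by group, B.zz, mul_one]
      exact hEab _ (hzE _ hr₀.1) _ hr₀.1
    have hvR : v ∉ R := fun h => hr' (by
      rw [← hzr₀]
      have := mul_mem (inv_mem hr₀) h
      rwa [hv, inv_mul_cancel_left] at this)
    obtain ⟨t, ht, ht1⟩ := B.exists_t
    obtain ⟨g, hg⟩ := isConj_iff.1 (H67.se_isConj B.S.se B.z2 (B.S.orderOf_two ht ht1))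
    have hcom : g * v * g⁻¹ * t = t * (g * v * g⁻¹) := by
      rw [← hg]
      have : v * z = z * v := by
        nth_rewrite 1 [← hzv]
        rw [mul_assoc, B.zz, mul_one]
      rw [show g * v * g⁻¹ * (g * z * g⁻¹) = g * (v * z) * g⁻¹ by group, this]
      group
    have hodd : Odd (orderOf (g * v * g⁻¹)) := by
      rw [show orderOf (g * v * g⁻¹) = orderOf v from
        orderOf_injective (MulAut.conj g).toMonoidHom (MulAut.conj g).injective v]
      exact B.odd_of_mem_D (hE.le hvE)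
    have hgvH : g * v * g⁻¹ ∈ H :=
      H67.se_centralizer_mem B.S.se (B.S.orderOf_two ht ht1) (B.S.T_le ht) hcom
    have hgvW := B.mem_W_of_commute hgvH hodd (B.S.T_le ht) (B.S.orderOf_two ht ht1) hcom
    obtain ⟨w, hw, hwR⟩ := hR.exists_conj_le (Q := (zpowers v).map (MulAut.conj g).toMonoidHom)
      ((hE.isPGroup.to_le (zpowers_le.2 hvE)).map _) (by
        rw [MonoidHom.map_zpowers, zpowers_le]; exact hgvW)
    have hv' : w * g * v * (w * g)⁻¹ ∈ R :=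
      hwR ⟨g * v * g⁻¹, ⟨v, mem_zpowers v, rfl⟩, by
        show w * (g * v * g⁻¹) * w⁻¹ = _; group⟩
    obtain ⟨Q₀, hQ₀⟩ := htop.exists_sylow
    obtain ⟨Es, hEs⟩ : ∃ Es : Sylow p G, (Es : Subgroup G) = E := by
      refine ⟨(hE.isPGroup).toSylow ?_, rfl⟩
      have h := htop.not_dvd
      rwa [Subgroup.relIndex_top_right] at h
    haveI : IsMulCommutative (Es : Subgroup G) :=
      ⟨⟨fun a b => Subtype.ext (hEab _ (hEs ▸ a.2) _ (hEs ▸ b.2))⟩⟩
    have hmemEs : ∀ y, y ∈ E → y ∈ (Es : Subgroup G) := fun y hy => hEs ▸ hy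
    obtain ⟨n, hn, hne⟩ := Es.conj_eq_normalizer_conj_of_mem v (w * g)⁻¹ (hmemEs _ hvE) (by
      rw [inv_inv]; exact hmemEs _ hv'.1)
    rw [show ((Es : Set G)) = (E : Set G) by rw [← hEs]; rfl] at hn
    rw [inv_inv] at hne
    have hnv : n⁻¹ * v * n ∈ W := hne ▸ hv'.2
    have hfix : ∀ w' ∈ ({pa H, pb H z} : Set (G ⧸ H)), n • w' = pa H ∨ n • w' = pb H z := by
      intro w' hw'
      refine B.e_no_third hp hE fun y hy => ?_
      have h1 : n⁻¹ * y * n ∈ E := (Subgroup.mem_normalizer_iff''.1 hn y).1 hy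
      have h2 : (n⁻¹ * y * n) • w' = w' := by
        rcases hw' with rfl | rfl
        · exact (hE.le h1).1
        · exact (hE.le h1).2
      conv_rhs => rw [← h2]
      rw [← mul_smul, ← mul_smul]
      congr 1
      group
    have hne' : n • pa H ≠ n • pb H z := fun e => B.pb_ne (MulAction.injective n e).symm
    have hcase : ∃ m ∈ H, m⁻¹ * v * m = n⁻¹ * v * n := by
      rcases hfix (pa H) (Or.inl rfl) with ha | ha
      · exact ⟨n, (smul_pa_iff H).1 ha, rfl⟩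
      · rcases hfix (pb H z) (Or.inr rfl) with hb | hb
        · refine ⟨z * n, (smul_pa_iff H).1 (by rw [mul_smul, ha, B.z_smul_pb]), ?_⟩
          rw [mul_inv_rev, H70.inv_eq_self_of_two B.z2,
            show n⁻¹ * z * v * (z * n) = n⁻¹ * (z * v * z) * n by group, hzv]
        · exact absurd (ha.trans hb.symm) hne'
    obtain ⟨m, hm, hmv⟩ := hcase
    refine hvR ⟨hvE, ?_⟩
    have h := B.S.W_conj m hm _ (hmv ▸ hnv)
    rwa [show m * (m⁻¹ * v * m) * m⁻¹ = v by group] at h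
  · -- induction in the normaliser of `R ∩ R'`
    set M := Subgroup.normalizer ((R ⊓ R' : Subgroup G) : Set G) with hMdef
    have hMtop : M ≠ ⊤ := B.normalizer_ne_top
      ((inf_le_left.trans inf_le_right).trans B.S.W_le) hZ
    have hzM : z ∈ M := by
      refine H82.mem_normalizer_of_map_le ?_
      rintro _ ⟨y, hy, rfl⟩
      obtain ⟨y₁, hy₁, e₁⟩ := hy.2
      refine ⟨?_, ⟨y, hy.1, rfl⟩⟩
      rw [show (MulAut.conj z).toMonoidHom y = (z * z) * y₁ * (z * z)⁻¹ by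
        rw [← e₁]; show z * (z * y₁ * z⁻¹) * z⁻¹ = _; group, B.zz, one_mul, inv_one, mul_one]
      exact hy₁
    have hTM : ∀ s ∈ T, s ∈ M := fun s hs => by
      refine H82.mem_normalizer_of_map_le ?_
      rintro _ ⟨y, hy, rfl⟩
      show s * y * s⁻¹ ∈ R ⊓ R'
      rwa [B.comm_WT hy.1.2 hs, mul_inv_cancel_right]
    have hRM : R ≤ M := fun r hr => by
      refine H82.mem_normalizer_of_map_le ?_
      rintro _ ⟨y, hy, rfl⟩
      exact ⟨hRn r hr.1 y hy.1, hR'n r hr.1 y hy.2⟩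
    have hloc := (B.local_good hMtop hzM B.zH (one_mem W) fun s hs => by
      rw [one_mul, inv_one, mul_one]; exact hTM s hs).1
    obtain ⟨t, ht, ht1⟩ := B.exists_t
    have ht2 := B.S.orderOf_two ht ht1
    refine hnle ?_
    rintro _ ⟨r, hr, rfl⟩
    refine ⟨hR'E ⟨r, hr, rfl⟩, ?_⟩
    show z * r * z⁻¹ ∈ W
    rw [H70.inv_eq_self_of_two B.z2]
    refine B.z_conj_mem (hE.le hr.1) (H67.invol_conj ht2 z) ?_ ?_
    · rw [← B.z_smul_pa, mul_smul, mul_smul, inv_smul_smul, (smul_pa_iff H).2 (B.S.T_le ht)]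
    · -- `z r z` commutes with `t`
      have h1 : z * r * z⁻¹ ∈ H := hloc r (hRM hr) hr.2 z hzM
      have h2 : z * r * z⁻¹ * t = t * (z * r * z⁻¹) := by
        set y := z * r * z⁻¹ with hy
        have hyM : y ∈ M := mul_mem (mul_mem hzM (hRM hr)) (inv_mem hzM)
        have hyo : Odd (orderOf y) := by
          rw [hy, show orderOf (z * r * z⁻¹) = orderOf r from
            orderOf_injective (MulAut.conj z).toMonoidHom (MulAut.conj z).injective r]
          exact B.odd_of_mem_D (hE.le hr.1)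
        haveI : Fact (Nat.Prime 2) := ⟨Nat.prime_two⟩
        set N0 := (H.subgroupOf M).normalCore with hN0
        have hrN : (⟨r, hRM hr⟩ : M) ∈ N0 := fun m => hloc r (hRM hr) hr.2 m m.2
        have hyN : (⟨y, hyM⟩ : M) ∈ N0 :=
          (H.subgroupOf M).normalCore_normal.conj_mem _ hrN ⟨z, hzM⟩
        have hcN : (⟨y, hyM⟩ : M) * ⟨t, hTM t ht⟩ * (⟨y, hyM⟩ : M)⁻¹ * ⟨t, hTM t ht⟩ ∈ N0 := by
          have h3 := mul_mem hyN ((H.subgroupOf M).normalCore_normal.conj_mem _ (inv_mem hyN)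
            ⟨t, hTM t ht⟩)
          rwa [← mul_assoc, ← mul_assoc,
            show (⟨t, hTM t ht⟩ : M)⁻¹ = ⟨t, hTM t ht⟩ from
              Subtype.ext (B.S.inv_self ht)] at h3
        have hsT : y * t * y⁻¹ * t ∈ T := mul_mem (B.T_conj h1 ht) ht
        by_contra hne
        have hsne : y * t * y⁻¹ * t ≠ 1 := fun e => hne (by
          rw [mul_eq_one_iff_eq_inv, B.S.inv_self ht, mul_inv_eq_iff_eq_mul] at e
          exact e)
        have hzt : z * (y * t * y⁻¹ * t) * z⁻¹ ∈ H := hcN ⟨z, hzM⟩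
        refine B.zH (inv_mem_iff.1 (H65.se_conj_mem B.S.se (g := z⁻¹)
          (H67.invol_conj (B.S.orderOf_two hsT hsne) z) hzt ?_))
        rw [inv_inv, show z * (z * (y * t * y⁻¹ * t) * z⁻¹) * z⁻¹ =
          (z * z) * (y * t * y⁻¹ * t) * (z * z)⁻¹ by group, B.zz, one_mul, inv_one, mul_one]
        exact B.S.T_le hsT
      calc r * (z * t * z⁻¹) = z⁻¹ * (z * r * z⁻¹ * t) * z := by
            rw [H70.inv_eq_self_of_two B.z2,
              show z * (z * r * z * t) * z = (z * z) * (r * (z * t * z)) by group, B.zz, one_mul]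
        _ = z⁻¹ * (t * (z * r * z⁻¹)) * z := by rw [h2]
        _ = z * t * z⁻¹ * r := by
            rw [H70.inv_eq_self_of_two B.z2,
              show z * (t * (z * r * z)) * z = z * t * z * r * (z * z) by group, B.zz, mul_one]

/-- `D ∩ W` is `z`-invariant. -/
theorem z_K {x : G} (hx : x ∈ Dz H z ⊓ W) : z * x * z ∈ Dz H z ⊓ W := by
  classical
  refine ⟨B.inv_mem_D_conj hx.1, ?_⟩
  let L : Subgroup G := (Dz H z ⊓ W) ⊓ W.comap (MulAut.conj z).toMonoidHom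
  suffices hL : Dz H z ⊓ W ≤ L by
    have h : z * x * z⁻¹ ∈ W := (hL hx).2
    rwa [H70.inv_eq_self_of_two B.z2] at h
  by_contra hnle
  have hrel : L.relIndex (Dz H z ⊓ W) ≠ 1 := fun e => hnle (Subgroup.relIndex_eq_one.1 e)
  obtain ⟨p, hp, hdvd⟩ := Nat.exists_prime_and_dvd hrel
  haveI := Fact.mk hp
  obtain ⟨R, hR, hRz⟩ : ∃ R : Subgroup G, H82.SylowIn p R (Dz H z ⊓ W) ∧
      ∀ y ∈ R, z * y * z ∈ W := by
    by_cases hpe : p = Nat.card T - 1
    · obtain ⟨R, hRK, hR, hz⟩ := B.e_part hpe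
      exact ⟨R, hR.of_le hRK inf_le_right, hz⟩
    · obtain ⟨R, hR⟩ := H82.exists_sylowIn p (Dz H z)
      have hRW := B.le_W_of_ne hp hpe hR.isPGroup hR.le
      exact ⟨R, hR.of_le (le_inf hR.le hRW) inf_le_left, fun y hy => B.z_conj_sylow hR hRW hy⟩
  have hRL : R ≤ L := fun y hy => ⟨hR.le hy, by
    show z * y * z⁻¹ ∈ W
    rw [H70.inv_eq_self_of_two B.z2]; exact hRz y hy⟩
  refine hR.not_dvd ?_
  rw [← Subgroup.relIndex_mul_relIndex R L _ hRL inf_le_left]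
  exact hdvd.trans (dvd_mul_left _ _)

/-- `z` centralises `D ∩ W`. -/
theorem comm_z {x : G} (hx : x ∈ Dz H z ⊓ W) : z * x = x * z := by
  classical
  by_cases hK : Dz H z ⊓ W = ⊥
  · rw [hK, Subgroup.mem_bot] at hx
    rw [hx, mul_one, one_mul]
  set M := Subgroup.normalizer ((Dz H z ⊓ W : Subgroup G) : Set G) with hM
  have hzM : z ∈ M := by
    refine H82.mem_normalizer_of_map_le ?_
    rintro _ ⟨y, hy, rfl⟩
    show z * y * z⁻¹ ∈ _
    rw [H70.inv_eq_self_of_two B.z2]; exact B.z_K hy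
  have hTM : ∀ s ∈ T, s ∈ M := fun s hs => by
    refine H82.mem_normalizer_of_map_le ?_
    rintro _ ⟨y, hy, rfl⟩
    show s * y * s⁻¹ ∈ _
    rwa [B.comm_WT hy.2 hs, mul_inv_cancel_right]
  have hS := B.S.restrict (M := M) (fun h => B.zH (h hzM)) (one_mem W) fun s hs => by
    rw [one_mul, inv_one, mul_one]; exact hTM s hs
  obtain ⟨t, ht, ht1⟩ := B.exists_t
  obtain ⟨m, hm⟩ := isConj_iff.1 (H67.se_isConj hS.se (a := ⟨t, hTM t ht⟩) (b := ⟨z, hzM⟩)
    (by rw [Subgroup.orderOf_mk]; exact B.S.orderOf_two ht ht1)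
    (by rw [Subgroup.orderOf_mk]; exact B.z2))
  have hm' : (m : G) * t * (m : G)⁻¹ = z := congrArg Subtype.val hm
  have hxm : (m : G)⁻¹ * x * m ∈ Dz H z ⊓ W := (Subgroup.mem_normalizer_iff''.1 m.2 x).1 hx
  rw [← hm']
  calc (m : G) * t * (m : G)⁻¹ * x = m * (t * ((m : G)⁻¹ * x * m)) * (m : G)⁻¹ := by group
    _ = m * (((m : G)⁻¹ * x * m) * t) * (m : G)⁻¹ := by rw [B.comm_WT hxm.2 ht]
    _ = x * (m * t * (m : G)⁻¹) := by group

theorem centralizer_ne_top {x : G} (hxH : x ∈ H) (hx1 : x ≠ 1) :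
    Subgroup.centralizer ({x} : Set G) ≠ ⊤ := by
  intro htop
  refine B.normalizer_ne_top (P := zpowers x) (zpowers_le.2 hxH) (by simpa using hx1) ?_
  rw [eq_top_iff]
  intro g _
  refine H82.mem_normalizer_of_map_le ?_
  rw [MonoidHom.map_zpowers, zpowers_le]
  show g * x * g⁻¹ ∈ zpowers x
  rw [Subgroup.mem_centralizer_singleton_iff.1 (htop ▸ Subgroup.mem_top g :
    g ∈ Subgroup.centralizer ({x} : Set G)), mul_inv_cancel_right]
  exact mem_zpowers x

theorem cent_local {x : G} (hx : x ∈ Dz H z ⊓ W) :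
    z ∈ Subgroup.centralizer ({x} : Set G) ∧
      ∀ s ∈ T, s ∈ Subgroup.centralizer ({x} : Set G) :=
  ⟨Subgroup.mem_centralizer_singleton_iff.2 (B.comm_z hx),
    fun s hs => Subgroup.mem_centralizer_singleton_iff.2 (B.comm_WT hx.2 hs)⟩

/-- `C_W(x) ≤ D ∩ W` for `1 ≠ x ∈ D ∩ W`. -/
theorem cent_W_le {x y : G} (hx : x ∈ Dz H z ⊓ W) (hx1 : x ≠ 1) (hy : y ∈ W)
    (hc : y * x = x * y) : y ∈ Dz H z ⊓ W := by
  obtain ⟨hz, hT⟩ := B.cent_local hx
  have h := (B.local_good (B.centralizer_ne_top (B.S.W_le hx.2) hx1) hz B.zH (one_mem W)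
    fun s hs => by rw [one_mul, inv_one, mul_one]; exact hT s hs).1 y
    (Subgroup.mem_centralizer_singleton_iff.2 hc) hy z hz
  refine ⟨⟨(smul_pa_iff H).2 (B.S.W_le hy), ?_⟩, hy⟩
  rw [← smul_pa_iff, H70.inv_eq_self_of_two B.z2, mul_smul, mul_smul, B.z_smul_pa] at h
  show y • pb H z = pb H z
  rw [← B.z_smul_pb] at h
  exact MulAction.injective z h

/-- If `D ∩ W ≠ 1` the kernel of the action on `T` is `W T`. -/
theorem triv_le (hK : Dz H z ⊓ W ≠ ⊥) {h : G} (hh : h ∈ H) (ht : Triv W T h) : h ∈ W ⊔ T := by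
  obtain ⟨p, hp, hpd⟩ := Nat.exists_prime_and_dvd
    (fun e => hK (Subgroup.card_eq_one.1 e) : Nat.card ↥(Dz H z ⊓ W) ≠ 1)
  haveI := Fact.mk hp
  obtain ⟨R, hRK, hR⟩ := B.exists_sylow_W hpd
  have hR1 : R ≠ ⊥ := by
    intro hbot
    refine hR.not_dvd ?_
    rw [hbot, Subgroup.relIndex_bot_left]
    exact hpd.trans (card_dvd_of_le inf_le_right)
  have hWh : W.map (MulAut.conj h).toMonoidHom = W := by
    refine Subgroup.eq_of_le_of_card_ge ?_ (H82.card_map_conj _ _).ge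
    rintro _ ⟨y, hy, rfl⟩
    exact B.S.W_conj h hh y hy
  have hRh : H82.SylowIn p (R.map (MulAut.conj h).toMonoidHom) W := hWh ▸ hR.map_equiv h
  obtain ⟨w, hw, hwR⟩ := hR.exists_conj hRh
  have hnN : w⁻¹ * h ∈ Subgroup.normalizer (R : Set G) := by
    rw [H82.mem_normalizer_iff_map, H82.map_conj_mul, ← hwR, H82.map_conj_inv_cancel]
  have hT : ∀ s ∈ T, s ∈ Subgroup.normalizer (R : Set G) := fun s hs => by
    refine H82.mem_normalizer_of_map_le ?_
    rintro _ ⟨y, hy, rfl⟩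
    show s * y * s⁻¹ ∈ R
    rwa [B.comm_WT (hR.le hy) hs, mul_inv_cancel_right]
  have hz : z ∈ Subgroup.normalizer (R : Set G) := by
    refine H82.mem_normalizer_of_map_le ?_
    rintro _ ⟨y, hy, rfl⟩
    show z * y * z⁻¹ ∈ R
    rwa [B.comm_z (hRK hy), mul_inv_cancel_right]
  have hmem := (B.local_good (B.normalizer_ne_top (hR.le.trans B.S.W_le) hR1) hz B.zH (one_mem W)
    fun s hs => by rw [one_mul, inv_one, mul_one]; exact hT s hs).2 _ hnN
    (mul_mem (inv_mem (B.S.W_le hw)) hh)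
    (B.S.triv_mul (inv_mem (B.S.W_le hw)) (B.S.triv_of_mem_sup (mem_sup_left (inv_mem hw))) ht)
  have := mul_mem (mem_sup_left hw : w ∈ W ⊔ T) hmem
  rwa [mul_inv_cancel_left] at this

/-- The fixed points of `1 ≠ x ∈ D ∩ W` other than `H` form `T (z H)`. -/
theorem fix_eq {x : G} (hx : x ∈ Dz H z ⊓ W) (hx1 : x ≠ 1) {c : G ⧸ H} (hc : x • c = c)
    (hca : c ≠ pa H) : ∃ s ∈ T, c = s • pb H z := by
  have hK : Dz H z ⊓ W ≠ ⊥ := fun e => hx1 (Subgroup.mem_bot.1 (e ▸ hx))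
  obtain ⟨t, ht, ht1⟩ := B.exists_t
  obtain ⟨h, hh, rfl⟩ := B.exists_t_conj_smul hca
  -- `h = (w s) d`
  obtain ⟨d, hd, hdt⟩ := B.exists_D_conj (B.S.T_le ht) (B.S.orderOf_two ht ht1)
    (mul_mem (mul_mem hh (B.S.T_le ht)) (inv_mem hh)) (H67.invol_conj (B.S.orderOf_two ht ht1) h)
  have htr : Triv W T (d⁻¹ * h) := by
    refine B.triv_of_commute (mul_mem (inv_mem (B.D_le hd)) hh) (B.S.T_le ht)
      (B.S.orderOf_two ht ht1) ?_
    calc d⁻¹ * h * t = d⁻¹ * (h * t * h⁻¹) * h := by group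
      _ = d⁻¹ * (d * t * d⁻¹) * h := by rw [hdt]
      _ = t * (d⁻¹ * h) := by group
  obtain ⟨w₀, hw₀, s₀, hs₀, hdh⟩ := B.S.mem_sup.1
    (B.triv_le hK (mul_mem (inv_mem (B.D_le hd)) hh) htr)
  obtain ⟨w, hwdef⟩ : ∃ w, w = d * w₀ * d⁻¹ := ⟨_, rfl⟩
  obtain ⟨s, hsdef⟩ : ∃ s, s = d * s₀ * d⁻¹ := ⟨_, rfl⟩
  have hw : w ∈ W := hwdef ▸ B.S.W_conj d (B.D_le hd) w₀ hw₀
  have hs : s ∈ T := hsdef ▸ B.T_conj (B.D_le hd) hs₀
  have hpt : h • pb H z = s • w • pb H z := by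
    rw [← mul_smul, B.comm_WT hw hs, hwdef, hsdef, show h = d * (d⁻¹ * h) by group, hdh,
      show d * w₀ * d⁻¹ * (d * s₀ * d⁻¹) = d * (w₀ * s₀) * d⁻¹ by group,
      mul_smul (d * (w₀ * s₀)), inv_smul_eq_iff.2 (show d • pb H z = pb H z from hd.2).symm]
  refine ⟨s, hs, ?_⟩
  rw [hpt] at hc ⊢
  congr 1
  have hwb : x • w • pb H z = w • pb H z := by
    refine MulAction.injective s ?_
    show s • x • w • pb H z = s • w • pb H z
    rwa [← mul_smul, B.comm_WT hx.2 hs, mul_smul]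
  -- `x' = w⁻¹ x w`
  obtain ⟨x', hx'def⟩ : ∃ x', x' = w⁻¹ * x * w := ⟨_, rfl⟩
  have hx'W : x' ∈ W := hx'def ▸ mul_mem (mul_mem (inv_mem hw) hx.2) hw
  have hx' : x' ∈ Dz H z ⊓ W := ⟨⟨(smul_pa_iff H).2 (B.S.W_le hx'W), by
    show x' • pb H z = pb H z
    rw [hx'def, mul_smul, mul_smul, hwb, inv_smul_smul]⟩, hx'W⟩
  have hx'1 : x' ≠ 1 := fun e => hx1 (by
    rw [hx'def, mul_eq_one_iff_eq_inv, inv_mul_eq_iff_eq_mul, mul_inv_cancel] at e; exact e)
  obtain ⟨hz', hT'⟩ := B.cent_local hx'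
  set M := Subgroup.centralizer ({x'} : Set G) with hM
  have hS := B.S.restrict (M := M) (fun h => B.zH (h hz')) (one_mem W) fun r hr => by
    rw [one_mul, inv_one, mul_one]; exact hT' r hr
  set z' := w⁻¹ * z * w with hz'def
  have hz'M : z' ∈ M := Subgroup.mem_centralizer_singleton_iff.2 (by
    rw [hz'def, hx'def, show w⁻¹ * z * w * (w⁻¹ * x * w) = w⁻¹ * (z * x) * w by group,
      B.comm_z hx]
    group)
  have hz'H : z' ∉ H := fun h => B.zH (by
    have := mul_mem (mul_mem (B.S.W_le hw) h) (inv_mem (B.S.W_le hw))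
    rwa [hz'def, show w * (w⁻¹ * z * w) * w⁻¹ = z by group] at this)
  obtain ⟨t', ht', t'', ht'', ht'1, ht''1, hne⟩ := B.exists_two_t
  obtain ⟨k, hk, hk2⟩ := H29SEB.transitive_off hS.se
    (t₀ := (⟨t', hT' t' ht'⟩ : M)) (t₁ := (⟨t'', hT' t'' ht''⟩ : M))
    (by rw [Subgroup.orderOf_mk]; exact B.S.orderOf_two ht' ht'1)
    (by rw [Subgroup.orderOf_mk]; exact B.S.orderOf_two ht'' ht''1)
    (fun e => hne (congrArg Subtype.val e)) (Subtype.ext (B.S.comm ht' ht''))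
    (g₁ := ⟨z, hz'⟩) (g₂ := ⟨z', hz'M⟩) (fun h => B.zH h) (fun h => hz'H h)
  have hkH : (k : G) ∈ H := hk
  have hkpt : (k : G) • pb H z = z' • pa H := by
    rw [← B.z_smul_pa, ← mul_smul, smul_pa, smul_pa]
    exact (QuotientGroup.eq.2 (show z'⁻¹ * ((k : G) * z) ∈ H from hk2)).symm
  have hz'pa : z' • pa H = w⁻¹ • pb H z := by
    rw [hz'def, mul_smul, mul_smul, (smul_pa_iff H).2 (B.S.W_le hw), B.z_smul_pa]
  -- decompose `k` inside `M`
  obtain ⟨d', hd', hzd', -, hd't⟩ := H67.exists_inverted_conj hS.se (u := (⟨z, hz'⟩ : M))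
    (by rw [Subgroup.orderOf_mk]; exact B.z2) (fun h => B.zH h)
    (s := (⟨t', hT' t' ht'⟩ : M)) (t := k * ⟨t', hT' t' ht'⟩ * k⁻¹)
    (by rw [Subgroup.orderOf_mk]; exact B.S.orderOf_two ht' ht'1) (B.S.T_le ht')
    (H67.invol_conj (by rw [Subgroup.orderOf_mk]; exact B.S.orderOf_two ht' ht'1) k)
    (mul_mem (mul_mem hk (B.S.T_le ht')) (inv_mem hk))
  have hd'D : (d' : G) ∈ Dz H z :=
    ⟨(smul_pa_iff H).2 hd', H65.smul_coset_eq_iff.2 hzd'⟩
  have htr' : Triv W T ((d' : G)⁻¹ * k) := by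
    refine B.triv_of_commute (mul_mem (inv_mem hd') hkH) (B.S.T_le ht')
      (B.S.orderOf_two ht' ht'1) ?_
    have hd't' : (d' : G) * t' * (d' : G)⁻¹ = (k : G) * t' * (k : G)⁻¹ :=
      congrArg Subtype.val hd't
    calc (d' : G)⁻¹ * k * t' = (d' : G)⁻¹ * ((k : G) * t' * (k : G)⁻¹) * k := by group
      _ = (d' : G)⁻¹ * ((d' : G) * t' * (d' : G)⁻¹) * k := by rw [hd't']
      _ = t' * ((d' : G)⁻¹ * k) := by group
  obtain ⟨w₁, hw₁, s₁, hs₁, hk'⟩ : ∃ w₁ ∈ W, ∃ s₁ ∈ T, (d' : G)⁻¹ * (k : G) = w₁ * s₁ :=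
    B.S.mem_sup.1 (B.triv_le hK (mul_mem (inv_mem hd') hkH) htr')
  have hw₁M : w₁ ∈ M := by
    have := mul_mem (mul_mem (inv_mem d'.2) k.2) (inv_mem (hT' s₁ hs₁))
    rwa [hk', mul_inv_cancel_right] at this
  have hw₁K := B.cent_W_le hx' hx'1 hw₁ (Subgroup.mem_centralizer_singleton_iff.1 hw₁M)
  obtain ⟨r, hr, hrk⟩ : ∃ r ∈ T, (k : G) • pb H z = r • pb H z := by
    refine ⟨(d' : G) * s₁ * (d' : G)⁻¹, B.T_conj hd' hs₁, ?_⟩
    rw [show (k : G) = (d' : G) * ((d' : G)⁻¹ * k) by group, hk', ← B.comm_WT hw₁ hs₁, mul_smul,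
      mul_smul, show w₁ • pb H z = pb H z from hw₁K.1.2, mul_smul ((d' : G) * s₁),
      inv_smul_eq_iff.2 (show (d' : G) • pb H z = pb H z from hd'D.2).symm, mul_smul]
  rw [hkpt, hz'pa] at hrk
  -- `w r ∈ D`
  have hwr : (w * r) • pb H z = pb H z := by rw [mul_smul, ← hrk, smul_inv_smul]
  have hwrH : w * r ∈ H := mul_mem (B.S.W_le hw) (B.S.T_le hr)
  have hwrD : w * r ∈ Dz H z := ⟨(smul_pa_iff H).2 hwrH, hwr⟩
  have hwrW := B.S.mem_W_of_odd (mul_mem (mem_sup_left hw) (mem_sup_right hr))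
    (B.odd_of_mem_D hwrD)
  have hr1 : r = 1 := B.S.eq_one_of_mem hr (by
    have := mul_mem (inv_mem hw) hwrW
    rwa [inv_mul_cancel_left] at this)
  rwa [hr1, mul_one] at hwr

end Base

end H64.SEP
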