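import Cfsg.Agent.H64.SEP.Zero

/-!
Strongly embedded subgroups with involutions in `W T` (helper64): the main theorem.
-/

set_option autoImplicit false
set_option linter.style.haveILetI false
set_option linter.unusedSectionVars false

namespace H64.SEP

open Subgroup

universe u

namespace Setup

variable {G : Type u} [Group G] [Finite G] {H W T : Subgroup G} (S : Setup G H W T)
include S

theorem mem_sup_invol {i : G} (hiH : i ∈ H) (hi : orderOf i = 2) : i ∈ W ⊔ T :=
  S.mem_sup_of_invol hiH hi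

theorem core_odd : Odd (Nat.card H.normalCore) := by
  rcases Nat.even_or_odd (Nat.card H.normalCore) with he | ho
  · exfalso
    obtain ⟨i, hi, hi2⟩ := H65.exists_two_mem he
    obtain ⟨z, hz2, hzH⟩ := H67.se_exists_invol_not_mem S.se
    obtain ⟨g, hg⟩ := isConj_iff.1 (H67.se_isConj S.se hi2 hz2)
    exact hzH (hg ▸ hi g)
  · exact ho

theorem core_le : H.normalCore ≤ W := by
  intro n hn
  have hnH : n ∈ H := H.normalCore_le hn
  have hno : Odd (orderOf n) := S.core_odd.of_dvd_nat (Subgroup.orderOf_dvd_natCard _ hn)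
  refine S.odd_act n hnH hno fun s hs => ?_
  by_cases hs1 : s = 1
  · rw [hs1, mul_one, mul_one, mul_inv_cancel]; exact one_mem _
  have hi := S.orderOf_two hs hs1
  refine S.mem_W_of_odd (mul_mem (S.mem_sup_invol (mul_mem (mul_mem hnH (S.T_le hs)) (inv_mem hnH))
    (H67.invol_conj hi n)) (mem_sup_right hs)) (S.core_odd.of_dvd_nat (Subgroup.orderOf_dvd_natCard _ ?_))
  have h := mul_mem hn (H.normalCore_normal.conj_mem _ (inv_mem hn) s)
  rwa [← mul_assoc, ← mul_assoc, S.inv_self hs] at h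

theorem mk_mem_map_iff {K : Subgroup G} (hNK : H.normalCore ≤ K) {x : G} :
    (x : G ⧸ H.normalCore) ∈ K.map (QuotientGroup.mk' H.normalCore) ↔ x ∈ K := by
  constructor
  · rintro ⟨y, hy, hyx⟩
    have h := hNK (QuotientGroup.eq.1 hyx)
    have h2 := mul_mem hy h
    rwa [mul_inv_cancel_left] at h2
  · exact fun hx => ⟨x, hx, rfl⟩

/-- An involution of `H` modulo the core is the image of an involution. -/
theorem exists_lift {x : G} (hx : x ∈ H) (h2 : orderOf (x : G ⧸ H.normalCore) = 2) :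
    ∃ i ∈ H, orderOf i = 2 ∧ (i : G ⧸ H.normalCore) = (x : G ⧸ H.normalCore) := by
  refine ⟨x ^ Nat.card H.normalCore, pow_mem hx _, ?_, ?_⟩
  · have hsq : x ^ 2 ∈ H.normalCore := by
      rw [← QuotientGroup.eq_one_iff, QuotientGroup.mk_pow, ← h2, pow_orderOf_eq_one]
    refine orderOf_eq_prime ?_ fun h => ?_
    · rw [← pow_mul, mul_comm, pow_mul]
      exact congrArg Subtype.val (pow_card_eq_one' (x := (⟨x ^ 2, hsq⟩ : H.normalCore)))
    · have h' := congrArg (fun y : G => (y : G ⧸ H.normalCore)) h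
      simp only [QuotientGroup.mk_pow, QuotientGroup.mk_one] at h'
      have hdvd := orderOf_dvd_of_pow_eq_one h'
      rw [h2] at hdvd
      exact Nat.not_even_iff_odd.2 S.core_odd (even_iff_two_dvd.2 hdvd)
  · obtain ⟨j, hj⟩ := S.core_odd
    rw [QuotientGroup.mk_pow, hj, pow_succ, pow_mul, ← h2, pow_orderOf_eq_one, one_pow, one_mul]

/-- The setting modulo the core. -/
theorem quotient :
    Setup (G ⧸ H.normalCore) (H.map (QuotientGroup.mk' H.normalCore))
      (W.map (QuotientGroup.mk' H.normalCore)) (T.map (QuotientGroup.mk' H.normalCore)) := by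
  classical
  haveI : Fact (Nat.Prime 2) := ⟨Nat.prime_two⟩
  set N := H.normalCore with hN
  have hNW := S.core_le
  have hNH : N ≤ H := H.normalCore_le
  have hcard : Nat.card (T.map (QuotientGroup.mk' N)) = Nat.card T := by
    let f : T → T.map (QuotientGroup.mk' N) := fun s => ⟨_, Subgroup.mem_map_of_mem _ s.2⟩
    refine (Nat.card_congr (Equiv.ofBijective f ⟨fun s r h => ?_, ?_⟩)).symm
    · have h' := hNW (QuotientGroup.eq.1 (congrArg Subtype.val h))
      rw [S.inv_self s.2] at h'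
      exact Subtype.ext (S.eq_of_mul_mem s.2 r.2 h')
    · rintro ⟨_, s, hs, rfl⟩
      exact ⟨⟨s, hs⟩, rfl⟩
  have hodd : ∀ h : G, Odd (orderOf (h : G ⧸ N)) → Odd (orderOf h) := by
    intro h ho
    refine Odd.of_dvd_nat (ho.mul S.core_odd) (orderOf_dvd_of_pow_eq_one ?_)
    have hmem : h ^ orderOf (h : G ⧸ N) ∈ N := by
      rw [← QuotientGroup.eq_one_iff, QuotientGroup.mk_pow, pow_orderOf_eq_one]
    rw [pow_mul]
    exact congrArg Subtype.val (pow_card_eq_one' (x := (⟨_, hmem⟩ : N)))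
  have hmemW : ∀ x : G, (x : G ⧸ N) ∈ W.map (QuotientGroup.mk' N) ↔ x ∈ W := fun x =>
    S.mk_mem_map_iff hNW
  refine
    { se := ?_
      W_le := Subgroup.map_mono S.W_le
      W_conj := ?_
      W_odd := S.W_odd.of_dvd_nat (Subgroup.card_map_dvd _ _)
      T_le := Subgroup.map_mono S.T_le
      T_sq := ?_
      four_le := hcard ▸ S.four_le
      prime := hcard ▸ S.prime
      invol := ?_
      act := ?_
      odd_act := ?_
      two_comm := ?_ }
  · have hne : H.map (QuotientGroup.mk' N) ≠ ⊤ := fun h => by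
      refine S.se.1 (eq_top_iff.2 fun g _ => (S.mk_mem_map_iff hNH).1 ?_)
      exact h ▸ Subgroup.mem_top _
    obtain ⟨t, ht, ht1⟩ : ∃ t ∈ T, t ≠ 1 := by
      refine (T.ne_bot_iff_exists_ne_one.1 fun h => ?_).elim fun x hx =>
        ⟨x, x.2, fun e => hx (Subtype.ext e)⟩
      have := S.four_le
      rw [h, Subgroup.card_bot] at this
      omega
    have heven : Even (Nat.card (H.map (QuotientGroup.mk' N))) := by
      refine H65.even_card_of_mem (t := (t : G ⧸ N)) ⟨t, S.T_le ht, rfl⟩ (orderOf_eq_prime ?_ ?_)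
      · rw [← QuotientGroup.mk_pow, pow_two, S.T_sq t ht, QuotientGroup.mk_one]
      · exact fun e => ht1 (S.eq_one_of_mem ht (hNW ((QuotientGroup.eq_one_iff t).1 e)))
    refine (H65.se_iff hne heven).2 fun x g hx hxH hg => ?_
    obtain ⟨x, rfl⟩ := QuotientGroup.mk_surjective x
    obtain ⟨g, rfl⟩ := QuotientGroup.mk_surjective g
    obtain ⟨i, hiH, hi2, hix⟩ := S.exists_lift ((S.mk_mem_map_iff hNH).1 hxH) hx
    rw [← hix, ← QuotientGroup.mk_inv, ← QuotientGroup.mk_mul, ← QuotientGroup.mk_mul] at hg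
    exact ⟨g, H65.se_conj_mem S.se hi2 hiH ((S.mk_mem_map_iff hNH).1 hg), rfl⟩
  · rintro _ ⟨h, hh, rfl⟩ _ ⟨w, hw, rfl⟩
    exact ⟨h * w * h⁻¹, S.W_conj h hh w hw, by rw [map_mul, map_mul, map_inv]⟩
  · rintro _ ⟨s, hs, rfl⟩
    rw [← map_mul, S.T_sq s hs, map_one]
  · intro x hx hx2
    obtain ⟨x, rfl⟩ := QuotientGroup.mk_surjective x
    obtain ⟨i, hiH, hi2, hix⟩ := S.exists_lift ((S.mk_mem_map_iff hNH).1 hx) hx2
    obtain ⟨s, hs, his⟩ := S.invol i hiH hi2
    refine ⟨(s : G ⧸ N), ⟨s, hs, rfl⟩, ?_⟩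
    rw [← hix, ← QuotientGroup.mk_mul]
    exact ⟨_, his, rfl⟩
  · rintro _ ⟨h, hh, rfl⟩ _ ⟨t, ht, rfl⟩ ht1 hmem _ ⟨s, hs, rfl⟩
    rw [← map_inv, ← map_mul, ← map_mul, ← map_mul] at hmem ⊢
    exact ⟨_, S.act h hh t ht (fun e => ht1 (by rw [e, map_one])) ((hmemW _).1 hmem) s hs, rfl⟩
  · intro x hx hxo htr
    obtain ⟨h, rfl⟩ := QuotientGroup.mk_surjective x
    refine ⟨h, S.odd_act h ((S.mk_mem_map_iff hNH).1 hx) (hodd h hxo) fun s hs => ?_, rfl⟩
    have := htr (s : G ⧸ N) ⟨s, hs, rfl⟩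
    rw [← QuotientGroup.mk_inv, ← QuotientGroup.mk_mul, ← QuotientGroup.mk_mul,
      ← QuotientGroup.mk_mul] at this
    exact (hmemW _).1 this
  · intro P hP hP2 x hx y hy
    set P₀ := P.comap (QuotientGroup.mk' N) with hP₀
    have hP₀H : P₀ ≤ H := fun g hg => (S.mk_mem_map_iff hNH).1 (hP hg)
    let φ : P₀ →* P := ((QuotientGroup.mk' N).comp P₀.subtype).codRestrict P fun g => g.2
    have hφ : Function.Surjective φ := by
      rintro ⟨a, ha⟩
      obtain ⟨a, rfl⟩ := QuotientGroup.mk_surjective a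
      exact ⟨⟨a, ha⟩, rfl⟩
    obtain ⟨Q⟩ : Nonempty (Sylow 2 P₀) := inferInstance
    have htop : (Q : Subgroup P₀).map φ = ⊤ :=
      ((Q.mapSurjective hφ).3 (hP2.to_subgroup (⊤ : Subgroup P) |>.of_injective
        (MonoidHom.id _) Function.injective_id) le_top).symm
    obtain ⟨⟨a, ha⟩, haQ, hax⟩ : (⟨x, hx⟩ : P) ∈ (Q : Subgroup P₀).map φ := htop ▸ Subgroup.mem_top _
    obtain ⟨⟨b, hb⟩, hbQ, hby⟩ : (⟨y, hy⟩ : P) ∈ (Q : Subgroup P₀).map φ := htop ▸ Subgroup.mem_top _
    have hcomm := S.two_comm ((Q : Subgroup P₀).map P₀.subtype)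
      ((Subgroup.map_subtype_le _).trans hP₀H) (Q.2.map _) a ⟨_, haQ, rfl⟩ b ⟨_, hbQ, rfl⟩
    have hx' : (a : G ⧸ N) = x := congrArg Subtype.val hax
    have hy' : (b : G ⧸ N) = y := congrArg Subtype.val hby
    rw [← hx', ← hy', ← QuotientGroup.mk_mul, ← QuotientGroup.mk_mul, hcomm]

end Setup

/-- The main theorem. -/
theorem good {G : Type u} [Group G] [Finite G] {H W T : Subgroup G} (S : Setup G H W T) :
    Good H W T := by
  induction hn : Nat.card G using Nat.strong_induction_on generalizing G with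
  | _ n IH =>
    subst hn
    by_cases hcore : H.normalCore = ⊥
    · obtain ⟨z, hz2, hzH⟩ := H67.se_exists_invol_not_mem S.se
      have B : Base G H W T z := ⟨S, hcore, hz2, hzH, fun M hM H' W' T' S' => by
        refine IH (Nat.card M) ?_ S' rfl
        refine lt_of_le_of_ne (Subgroup.card_le_card_group M) fun e => hM ?_
        exact Subgroup.eq_top_of_card_eq M e⟩
      haveI : Fintype G := Fintype.ofFinite _
      exact B.good_of_K_bot B.K_eq_bot
    · have hlt : Nat.card (G ⧸ H.normalCore) < Nat.card G := by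
        rw [← H.normalCore.index_eq_card, ← H.normalCore.card_mul_index]
        exact lt_mul_left (Nat.pos_of_ne_zero H.normalCore.index_ne_zero_of_finite)
          ((Subgroup.one_lt_card_iff_ne_bot _).2 hcore)
      obtain ⟨h1, h2⟩ := IH _ hlt S.quotient rfl
      refine ⟨fun w hw g => ?_, fun h hh htr => ?_⟩
      · refine (S.mk_mem_map_iff H.normalCore_le).1 ?_
        rw [QuotientGroup.mk_mul, QuotientGroup.mk_mul, QuotientGroup.mk_inv]
        exact h1 ⟨w, hw, rfl⟩ (g : G ⧸ H.normalCore)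
      · refine (S.mk_mem_map_iff (S.core_le.trans le_sup_left)).1 ?_
        rw [Subgroup.map_sup]
        refine h2 _ ⟨h, hh, rfl⟩ ?_
        rintro _ ⟨s, hs, rfl⟩
        exact ⟨_, htr s hs, by rw [map_mul, map_mul, map_mul, map_inv]; rfl⟩

end H64.SEP
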