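import Cfsg.Agent.H64.SEP.Line
import Cfsg.Agent.H12.Linear
import Mathlib.GroupTheory.Transfer
import Mathlib.GroupTheory.SpecificGroups.Cyclic

/-!
A linear character of `H` that is nontrivial on `D ∩ W`, trivial on `T` and invariant under the
swapper (helper64).
-/

set_option autoImplicit false
set_option linter.style.haveILetI false
set_option linter.unusedSectionVars false

namespace H64.SEP

open Subgroup
open scoped commutatorElement

universe u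

variable {G : Type u} [Group G] [Finite G] {H W T : Subgroup G} {z : G}

namespace Base

variable (B : Base G H W T z)
include B

theorem exists_gen :
    ∃ d ∈ Dz H z, d ∉ W ∧ z * d * z = d⁻¹ ∧ ∀ k ∈ Dz H z ⊓ W, d * k = k * d := by
  classical
  set M := Subgroup.centralizer ((Dz H z ⊓ W : Subgroup G) : Set G) with hM
  have hz : z ∈ M := fun k hk => (B.comm_z hk).symm
  have hT : ∀ s ∈ T, s ∈ M := fun s hs k hk => (B.comm_WT hk.2 hs).symm
  have hS := B.S.restrict (M := M) (fun h => B.zH (h hz)) (one_mem W) fun r hr => by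
    rw [one_mul, inv_one, mul_one]; exact hT r hr
  obtain ⟨s, hs, t, ht, hs1, ht1, hne⟩ := B.exists_two_t
  obtain ⟨d, hd, hzd, hinv, hdst⟩ := H67.exists_inverted_conj hS.se (u := (⟨z, hz⟩ : M))
    (by rw [Subgroup.orderOf_mk]; exact B.z2) (fun h => B.zH h)
    (s := (⟨s, hT s hs⟩ : M)) (t := (⟨t, hT t ht⟩ : M))
    (by rw [Subgroup.orderOf_mk]; exact B.S.orderOf_two hs hs1) (B.S.T_le hs)
    (by rw [Subgroup.orderOf_mk]; exact B.S.orderOf_two ht ht1) (B.S.T_le ht)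
  refine ⟨d, ⟨(smul_pa_iff H).2 hd, H65.smul_coset_eq_iff.2 hzd⟩, fun hW => hne ?_, ?_,
    fun k hk => (d.2 k hk).symm⟩
  · have h : (d : G) * s * (d : G)⁻¹ = t := congrArg Subtype.val hdst
    rwa [← B.comm_WT hW hs, mul_inv_cancel_right] at h
  · have h : z * (d : G) * z⁻¹ = (d : G)⁻¹ := congrArg Subtype.val hinv
    rwa [H70.inv_eq_self_of_two B.z2] at h

theorem mem_D_decomp {d x : G} (hd : d ∈ Dz H z) (hdW : d ∉ W) (hx : x ∈ Dz H z) :
    ∃ k ∈ Dz H z ⊓ W, ∃ i : ℤ, x = k * d ^ i := by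
  classical
  haveI := B.K_normal
  have hcard : Nat.card ((Dz H z) ⧸ (Dz H z ⊓ W).subgroupOf (Dz H z)) = Nat.card T - 1 := by
    rw [← Subgroup.index]; exact B.relIndex_K
  haveI : Fact (Nat.card T - 1).Prime := ⟨B.S.prime⟩
  have hne : ((⟨d, hd⟩ : Dz H z) : (Dz H z) ⧸ (Dz H z ⊓ W).subgroupOf (Dz H z)) ≠ 1 := fun h =>
    hdW ((QuotientGroup.eq_one_iff _).1 h).2
  obtain ⟨i, hi⟩ := mem_zpowers_iff.1 (mem_zpowers_of_prime_card hcard hne
    (g' := ((⟨x, hx⟩ : Dz H z) : (Dz H z) ⧸ (Dz H z ⊓ W).subgroupOf (Dz H z))))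
  rw [← QuotientGroup.mk_zpow, QuotientGroup.eq] at hi
  -- `x = d ^ i * k₀`
  obtain ⟨k₀, hk₀⟩ : ∃ k₀, k₀ = (d ^ i)⁻¹ * x := ⟨_, rfl⟩
  have hk₀K : k₀ ∈ Dz H z ⊓ W := by
    have h : (((⟨d, hd⟩ : Dz H z) ^ i)⁻¹ * ⟨x, hx⟩ : Dz H z).1 ∈ Dz H z ⊓ W := hi
    rw [hk₀]
    simpa using h
  refine ⟨d ^ i * k₀ * (d ^ i)⁻¹, B.K_conj (zpow_mem hd i) hk₀K, i, ?_⟩
  rw [hk₀]; group

theorem T_inter_D {s : G} (hs : s ∈ T) (hsD : s ∈ Dz H z) : s = 1 :=
  by_contra fun h1 => (B.smul_pb_ne hs h1).1 hsD.2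

/-- A character of `D` nontrivial on `D ∩ W`. -/
theorem exists_phi (hK : Dz H z ⊓ W ≠ ⊥) :
    ∃ (φ : (Dz H z).subgroupOf H →* ℂˣ) (k : G) (hk : k ∈ Dz H z ⊓ W),
      φ ⟨⟨k, B.D_le hk.1⟩, hk.1⟩ ≠ 1 := by
  classical
  set D := Dz H z with hDdef
  set K := D ⊓ W with hKdef
  haveI : Group.IsSolvable W := H16.FT.oddOrder B.S.W_odd
  haveI : Group.IsSolvable K :=
    Group.isSolvable_of_isSolvable_injective (Subgroup.inclusion_injective (inf_le_right : K ≤ W))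
  haveI : Nontrivial K := (Subgroup.nontrivial_iff_ne_bot K).2 hK
  obtain ⟨k, -, hk'⟩ := SetLike.exists_of_lt (IsSolvable.commutator_lt_top_of_nontrivial K)
  obtain ⟨d, hd, hdW, -, hdK⟩ := B.exists_gen
  let D' := (Dz H z).subgroupOf H
  let incl : K →* D' :=
    { toFun := fun x => ⟨⟨x, B.D_le x.2.1⟩, x.2.1⟩
      map_one' := rfl
      map_mul' := fun _ _ => rfl }
  have hcomm : commutator D' ≤ (commutator K).map incl := by
    rw [commutator_def, Subgroup.commutator_le]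
    rintro ⟨⟨a, haH⟩, ha⟩ - ⟨⟨b, hbH⟩, hb⟩ -
    obtain ⟨ka, hka, i, hai⟩ := B.mem_D_decomp hd hdW (show a ∈ Dz H z from ha)
    obtain ⟨kb, hkb, j, hbj⟩ := B.mem_D_decomp hd hdW (show b ∈ Dz H z from hb)
    refine ⟨⁅(⟨ka, hka⟩ : K), ⟨kb, hkb⟩⁆, Subgroup.commutator_mem_commutator (mem_top _) (mem_top _),
      Subtype.ext (Subtype.ext ?_)⟩
    show ka * kb * ka⁻¹ * kb⁻¹ = a * b * a⁻¹ * b⁻¹
    have hc : ∀ y ∈ K, ∀ m : ℤ, Commute (d ^ m) y := fun y hy m =>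
      (show Commute d y from hdK y hy).zpow_left m
    rw [hai, hbj]
    calc ka * kb * ka⁻¹ * kb⁻¹
        = ka * kb * (d ^ i * d ^ j) * ((d ^ i)⁻¹ * (d ^ j)⁻¹) * ka⁻¹ * kb⁻¹ := by
          rw [show d ^ i * d ^ j = d ^ j * d ^ i from (zpow_mul_comm d i j)]
          group
      _ = ka * kb * d ^ i * (d ^ j * (d ^ i)⁻¹) * ((d ^ j)⁻¹ * ka⁻¹) * kb⁻¹ := by group
      _ = ka * (kb * d ^ i) * (d ^ j * (d ^ i)⁻¹) * (ka⁻¹ * (d ^ j)⁻¹) * kb⁻¹ := by
          rw [((hc ka hka j).inv_left.inv_right).eq]; group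
      _ = ka * (d ^ i * kb) * (d ^ j * ((d ^ i)⁻¹ * ka⁻¹)) * ((d ^ j)⁻¹ * kb⁻¹) := by
          rw [(hc kb hkb i).eq]; group
      _ = ka * d ^ i * (kb * d ^ j) * (ka * d ^ i)⁻¹ * (kb * d ^ j)⁻¹ := by
          rw [mul_inv_rev ka, mul_inv_rev kb]; group
  have hne : Abelianization.of (incl k) ≠ 1 := by
    intro h
    rw [Abelianization.of, MonoidHom.coe_mk, OneHom.coe_mk] at h
    obtain ⟨k', hk'', he⟩ := hcomm ((QuotientGroup.eq_one_iff _).1 h)
    refine hk' ?_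
    have : k' = k := Subtype.ext (congrArg (fun y : D' => ((y : H) : G)) he)
    exact this ▸ hk''
  obtain ⟨φ, hφ⟩ := CommGroup.exists_apply_ne_one_of_hasEnoughRootsOfUnity (Abelianization D') ℂ hne
  exact ⟨φ.comp Abelianization.of, k, k.2, hφ⟩

theorem orderOf_odd_value {X : Type*} [Group X] [Finite X] (hX : Odd (Nat.card X)) (f : X →* ℂˣ)
    (x : X) : f x ^ Nat.card X = 1 := by
  rw [← map_pow, pow_card_eq_one', map_one]

omit B in
theorem eq_one_of_sq_of_odd {x : ℂˣ} {n : ℕ} (hn : Odd n) (h2 : x * x = 1) (h : x ^ n = 1) :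
    x = 1 := by
  obtain ⟨k, hk⟩ := hn
  rw [hk, pow_succ, pow_mul, pow_two, h2, one_pow, one_mul] at h
  exact h

/-- The linear character. -/
theorem exists_mu (hK : Dz H z ⊓ W ≠ ⊥) :
    ∃ μ : H →* ℂˣ, (∀ (s : G) (hs : s ∈ T), μ ⟨s, B.S.T_le hs⟩ = 1) ∧
      (∀ (x : G) (hx : x ∈ Dz H z),
        μ ⟨z * x * z, B.D_le (B.inv_mem_D_conj hx)⟩ = μ ⟨x, B.D_le hx⟩) ∧
      (∀ h : H, ∃ n : ℕ, Odd n ∧ μ h ^ n = 1) ∧
      ∃ (k : G) (hk : k ∈ Dz H z ⊓ W), μ ⟨k, B.D_le hk.1⟩ ≠ 1 := by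
  classical
  set D' := (Dz H z).subgroupOf H with hD'
  obtain ⟨φ, k, hk, hφ⟩ : ∃ (φ : D' →* ℂˣ) (k : G) (hk : k ∈ Dz H z ⊓ W),
      φ ⟨⟨k, B.D_le hk.1⟩, hk.1⟩ ≠ 1 := B.exists_phi hK
  have hD'odd : Odd (Nat.card D') := by
    rw [hD', Nat.card_congr (Subgroup.subgroupOfEquivOfLe B.D_le).toEquiv]; exact B.D_odd
  have hφodd : ∀ y : D', φ y ^ Nat.card D' = 1 := B.orderOf_odd_value hD'odd φ
  set μ₀ : H →* ℂˣ := MonoidHom.transfer φ with hμ₀
  haveI : Fintype (H ⧸ D') := Fintype.ofFinite _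
  have hμ₀odd : ∀ h : H, μ₀ h ^ Nat.card D' = 1 := fun h => by
    haveI : Fintype (Quotient (MulAction.orbitRel (zpowers h) (H ⧸ D'))) := Fintype.ofFinite _
    rw [hμ₀, MonoidHom.transfer_eq_prod_quotient_orbitRel_zpowers_quot, ← Finset.prod_pow]
    exact Finset.prod_eq_one fun q _ => hφodd _
  -- the value at `k`
  set kH : H := ⟨k, B.D_le hk.1⟩ with hkH
  have hk1 : k ≠ 1 := fun e => hφ (by
    have : (⟨⟨k, B.D_le hk.1⟩, hk.1⟩ : D') = 1 := Subtype.ext (Subtype.ext e)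
    rw [this, map_one])
  have hval : μ₀ kH = φ ⟨kH, hk.1⟩ ^ Nat.card T := by
    haveI : Fintype (Quotient (MulAction.orbitRel (zpowers kH) (H ⧸ D'))) := Fintype.ofFinite _
    haveI : Fintype T := Fintype.ofFinite _
    rw [hμ₀, MonoidHom.transfer_eq_prod_quotient_orbitRel_zpowers_quot]
    let ι : T → Quotient (MulAction.orbitRel (zpowers kH) (H ⧸ D')) := fun s =>
      Quotient.mk'' ((⟨s, B.S.T_le s.2⟩ : H) : H ⧸ D')
    have hfix : ∀ s : T, kH • (((⟨s, B.S.T_le s.2⟩ : H) : H ⧸ D')) =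
        ((⟨s, B.S.T_le s.2⟩ : H) : H ⧸ D') := by
      intro s
      rw [MulAction.Quotient.smul_coe, smul_eq_mul, QuotientGroup.eq]
      show ((k * (s : G))⁻¹ * (s : G)) ∈ Dz H z
      rw [← B.comm_WT hk.2 s.2, mul_inv_rev, mul_assoc, inv_mul_cancel, mul_one]
      exact inv_mem hk.1
    have hclass : ∀ (s : T) (c : H ⧸ D'), (Quotient.mk'' c :
        Quotient (MulAction.orbitRel (zpowers kH) (H ⧸ D'))) = ι s →
        c = ((⟨s, B.S.T_le s.2⟩ : H) : H ⧸ D') := by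
      intro s c h
      obtain ⟨⟨g, hg⟩, hgc⟩ := Quotient.exact' h
      obtain ⟨i, rfl⟩ := mem_zpowers_iff.1 hg
      rw [← hgc]
      show kH ^ i • (((⟨s, B.S.T_le s.2⟩ : H) : H ⧸ D')) = _
      exact MulAction.fixedBy_subset_fixedBy_zpow _ kH i (hfix s)
    have hι : Function.Injective ι := by
      intro s s' h
      have h1 := hclass s' _ h
      rw [QuotientGroup.eq] at h1
      have h2 : (s : G)⁻¹ * (s' : G) ∈ Dz H z := h1
      exact Subtype.ext (inv_mul_eq_one.1 (B.T_inter_D (mul_mem (inv_mem s.2) s'.2) h2))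
    rw [← Finset.prod_subset (Finset.subset_univ (Finset.univ.image ι))]
    · rw [Finset.prod_image (fun a _ b _ h => hι h), Nat.card_eq_fintype_card, ← Finset.card_univ,
        ← Finset.prod_const]
      refine Finset.prod_congr rfl fun s _ => ?_
      obtain ⟨c, hc⟩ : ∃ c, c = (ι s).out := ⟨_, rfl⟩
      have hcs : c = ((⟨s, B.S.T_le s.2⟩ : H) : H ⧸ D') :=
        hclass s c (by rw [hc]; exact Quotient.out_eq' _)
      have hper : Function.minimalPeriod (kH • ·) c = 1 := by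
        rw [Function.minimalPeriod_eq_one_iff_isFixedPt]
        show kH • c = c
        rw [hcs]; exact hfix s
      have hd0 : (⟨s, B.S.T_le s.2⟩ : H)⁻¹ * c.out ∈ D' := by
        rw [← QuotientGroup.eq, QuotientGroup.out_eq', hcs]
      have hsk : (⟨s, B.S.T_le s.2⟩ : H) * kH * (⟨s, B.S.T_le s.2⟩ : H)⁻¹ = kH :=
        Subtype.ext (by
          show (s : G) * k * (s : G)⁻¹ = k
          rw [B.comm_WT hk.2 s.2, mul_inv_cancel_right])
      have key : ∀ h : D', (h : H) = c.out⁻¹ * kH ^ Function.minimalPeriod (kH • ·) c * c.out →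
          φ h = φ ⟨kH, hk.1⟩ := by
        intro h hh
        have e : h = (⟨_, hd0⟩ : D')⁻¹ * ⟨kH, hk.1⟩ * ⟨_, hd0⟩ := by
          apply Subtype.ext
          rw [hh, hper, pow_one, Subgroup.coe_mul, Subgroup.coe_mul, Subgroup.coe_inv]
          show c.out⁻¹ * kH * c.out =
            ((⟨s, B.S.T_le s.2⟩ : H)⁻¹ * c.out)⁻¹ * kH * ((⟨s, B.S.T_le s.2⟩ : H)⁻¹ * c.out)
          conv_lhs => rw [← hsk]
          group
        rw [e, map_mul, map_mul, map_inv, mul_comm (φ ⟨_, hd0⟩)⁻¹, mul_assoc, inv_mul_cancel,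
          mul_one]
      refine key _ ?_
      rw [hc]
    · intro q _ hq
      set c := q.out with hc
      set m := Function.minimalPeriod (kH • ·) c with hm
      by_contra hne
      refine hq (Finset.mem_image.2 ?_)
      have hkm : k ^ m ≠ 1 := fun e => hne (by
        rw [← map_one φ]
        congr 1
        apply Subtype.ext
        show c.out⁻¹ * kH ^ m * c.out = 1
        rw [show kH ^ m = 1 from Subtype.ext (by rw [SubmonoidClass.coe_pow]; exact e), mul_one,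
          inv_mul_cancel])
      have hmem := QuotientGroup.out_conj_pow_minimalPeriod_mem D' kH c
      have hpt : (k ^ m) • (c.out : G) • pb H z = (c.out : G) • pb H z := by
        have h' : (((c.out⁻¹ * kH ^ m * c.out : H) : G)) • pb H z = pb H z :=
          (show ((c.out⁻¹ * kH ^ m * c.out : H) : G) ∈ Dz H z from hmem).2
        rw [Subgroup.coe_mul, Subgroup.coe_mul, Subgroup.coe_inv, SubmonoidClass.coe_pow, mul_smul,
          mul_smul, inv_smul_eq_iff] at h'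
        exact h'
      obtain ⟨s, hs, hsc⟩ := B.fix_eq (pow_mem hk m) hkm hpt fun e => B.pb_ne (by
        have h2 : (c.out : G)⁻¹ • pa H = pa H := (smul_pa_iff H).2 (inv_mem c.out.2)
        rw [← inv_smul_smul (c.out : G) (pb H z), e, h2])
      refine ⟨⟨s, hs⟩, Finset.mem_univ _, ?_⟩
      rw [← Quotient.out_eq' q]
      show Quotient.mk'' _ = Quotient.mk'' q.out
      congr 1
      rw [← hc, ← QuotientGroup.out_eq' c, QuotientGroup.eq]
      show s⁻¹ * (c.out : G) ∈ Dz H z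
      refine ⟨(smul_pa_iff H).2 (mul_mem (inv_mem (B.S.T_le hs)) c.out.2), ?_⟩
      show (s⁻¹ * (c.out : G)) • pb H z = pb H z
      rw [mul_smul, hsc, inv_smul_smul]
  have hμ₀k : μ₀ kH ≠ 1 := by
    intro h
    rw [hval] at h
    refine hφ ?_
    haveI : Fact (Nat.Prime 2) := ⟨Nat.prime_two⟩
    obtain ⟨j, hj⟩ := IsPGroup.iff_card.1 B.S.sylowIn_T.isPGroup
    have hcop : (2 ^ j).Coprime (Nat.card D') :=
      Nat.Coprime.pow_left j (Nat.coprime_two_left.2 hD'odd)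
    have h1 : orderOf (φ ⟨kH, hk.1⟩) ∣ 1 := by
      have := Nat.dvd_gcd (orderOf_dvd_of_pow_eq_one h) (orderOf_dvd_of_pow_eq_one (hφodd ⟨kH, hk.1⟩))
      rwa [hj, hcop] at this
    exact orderOf_eq_one_iff.1 (Nat.dvd_one.1 h1)
  have hμ₀T : ∀ (s : G) (hs : s ∈ T), μ₀ ⟨s, B.S.T_le hs⟩ = 1 := fun s hs => by
    refine eq_one_of_sq_of_odd hD'odd ?_ (hμ₀odd _)
    rw [← map_mul, ← map_one μ₀]
    congr 1
    exact Subtype.ext (B.S.T_sq s hs)
  -- correct the value at the generator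
  obtain ⟨d, hd, hdW, hzd, hdK⟩ := B.exists_gen
  set dH : H := ⟨d, B.D_le hd⟩ with hdH
  set N := (W ⊔ T).subgroupOf H with hNdef
  haveI hN : N.Normal := ⟨fun x hx h => by
    obtain ⟨w, hw, s, hs, hxs⟩ := B.S.mem_sup.1 (show (x : G) ∈ W ⊔ T from hx)
    show (h : G) * x * (h : G)⁻¹ ∈ W ⊔ T
    rw [hxs, show (h : G) * (w * s) * (h : G)⁻¹ = (h * w * (h : G)⁻¹) * (h * s * (h : G)⁻¹) by group]
    exact B.S.mem_sup.2 ⟨_, B.S.W_conj h h.2 w hw, _, B.T_conj h.2 hs, rfl⟩⟩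
  have hdN : (dH : H ⧸ N) ≠ 1 := fun h =>
    hdW (B.S.mem_W_of_odd ((QuotientGroup.eq_one_iff dH).1 h) (B.odd_of_mem_D hd))
  have hgen : ∀ x : H ⧸ N, x ∈ zpowers (dH : H ⧸ N) := by
    intro x
    obtain ⟨h, rfl⟩ := QuotientGroup.mk_surjective x
    obtain ⟨t, ht, ht1⟩ := B.exists_t
    obtain ⟨d₁, hd₁, hdt⟩ := B.exists_D_conj (B.S.T_le ht) (B.S.orderOf_two ht ht1)
      (mul_mem (mul_mem h.2 (B.S.T_le ht)) (inv_mem h.2)) (H67.invol_conj (B.S.orderOf_two ht ht1) h)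
    obtain ⟨k₁, hk₁, i, rfl⟩ := B.mem_D_decomp hd hdW hd₁
    refine mem_zpowers_iff.2 ⟨i, ?_⟩
    rw [← QuotientGroup.mk_zpow, QuotientGroup.eq]
    show ((dH ^ i : H) : G)⁻¹ * (h : G) ∈ W ⊔ T
    rw [SubgroupClass.coe_zpow]
    have htr : Triv W T ((k₁ * d ^ i)⁻¹ * h) := by
      refine B.triv_of_commute (mul_mem (inv_mem (B.D_le hd₁)) h.2) (B.S.T_le ht)
        (B.S.orderOf_two ht ht1) ?_
      calc (k₁ * d ^ i)⁻¹ * h * t = (k₁ * d ^ i)⁻¹ * (h * t * (h : G)⁻¹) * h := by group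
        _ = (k₁ * d ^ i)⁻¹ * ((k₁ * d ^ i) * t * (k₁ * d ^ i)⁻¹) * h := by rw [hdt]
        _ = t * ((k₁ * d ^ i)⁻¹ * h) := by group
    have h1 := B.triv_le hK (mul_mem (inv_mem (B.D_le hd₁)) h.2) htr
    have h2 : (d ^ i)⁻¹ * k₁ * d ^ i ∈ W ⊔ T :=
      mem_sup_left (B.S.W_conj' (B.D_le (zpow_mem hd i)) hk₁.2)
    have h3 := mul_mem h2 h1
    rwa [show (d ^ i)⁻¹ * k₁ * d ^ i * ((k₁ * d ^ i)⁻¹ * h) = (d ^ i)⁻¹ * h by group] at h3
  have hde : d ^ (Nat.card T - 1) ∈ Dz H z ⊓ W := B.pow_mem_K hd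
  have hde1 : d ^ (Nat.card T - 1) = 1 := by
    have h1 : z * d ^ (Nat.card T - 1) * z = (d ^ (Nat.card T - 1))⁻¹ := by
      conv_lhs => rw [show z * d ^ (Nat.card T - 1) * z = z * d ^ (Nat.card T - 1) * z⁻¹ by
        rw [H70.inv_eq_self_of_two B.z2]]
      rw [← conj_pow, H70.inv_eq_self_of_two B.z2, hzd, inv_pow]
    rw [B.comm_z hde, mul_assoc, B.zz, mul_one] at h1
    exact orderOf_eq_one_iff.1 (Nat.eq_one_of_dvd_coprimes
      (Nat.coprime_two_left.2 (B.odd_of_mem_D hde.1))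
      (orderOf_dvd_of_pow_eq_one (by rw [pow_two]; nth_rewrite 2 [h1]; exact mul_inv_cancel _))
      dvd_rfl)
  have hord : orderOf ((μ₀ dH)⁻¹) ∣ orderOf (dH : H ⧸ N) := by
    have h1 : orderOf (dH : H ⧸ N) = Nat.card T - 1 := by
      haveI : Fact (Nat.card T - 1).Prime := ⟨B.S.prime⟩
      refine orderOf_eq_prime ?_ hdN
      rw [← QuotientGroup.mk_pow, QuotientGroup.eq_one_iff]
      show ((dH ^ (Nat.card T - 1) : H) : G) ∈ W ⊔ T
      rw [SubmonoidClass.coe_pow, hde1]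
      exact one_mem _
    rw [h1, orderOf_inv]
    refine orderOf_dvd_of_pow_eq_one ?_
    rw [← map_pow, show dH ^ (Nat.card T - 1) = 1 from Subtype.ext (by
      rw [SubmonoidClass.coe_pow]; exact hde1), map_one]
  set η : H →* ℂˣ := (monoidHomOfForallMemZpowers hgen hord).comp (QuotientGroup.mk' N) with hη
  have hηd : η dH = (μ₀ dH)⁻¹ :=
    monoidHomOfForallMemZpowers_apply_gen hgen hord
  have hηN : ∀ x ∈ N, η x = 1 := fun x hx => by
    rw [hη, MonoidHom.comp_apply, QuotientGroup.mk'_apply, (QuotientGroup.eq_one_iff x).2 hx,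
      map_one]
  refine ⟨μ₀ * η, fun s hs => ?_, fun x hx => ?_, fun h => ?_, k, hk, ?_⟩
  · rw [MonoidHom.mul_apply, hμ₀T s hs, hηN _ (mem_sup_right hs : s ∈ W ⊔ T), one_mul]
  · obtain ⟨kx, hkx, i, rfl⟩ := B.mem_D_decomp hd hdW hx
    have hd1 : (μ₀ * η) dH = 1 := by rw [MonoidHom.mul_apply, hηd, mul_inv_cancel]
    have e1 : (⟨z * (kx * d ^ i) * z, B.D_le (B.inv_mem_D_conj hx)⟩ : H) =
        ⟨kx, B.D_le hkx.1⟩ * dH ^ (-i) := by
      apply Subtype.ext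
      rw [Subgroup.coe_mul, SubgroupClass.coe_zpow]
      show z * (kx * d ^ i) * z = kx * d ^ (-i)
      have h1 : z * d ^ i * z = d ^ (-i) := by
        conv_lhs => rw [show z * d ^ i * z = z * d ^ i * z⁻¹ by rw [H70.inv_eq_self_of_two B.z2]]
        rw [← conj_zpow, H70.inv_eq_self_of_two B.z2, hzd, inv_zpow']
      rw [← h1, ← mul_assoc, ← mul_assoc, ← mul_assoc, B.comm_z hkx]
    have e2 : (⟨kx * d ^ i, B.D_le hx⟩ : H) = ⟨kx, B.D_le hkx.1⟩ * dH ^ i := by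
      apply Subtype.ext
      rw [Subgroup.coe_mul, SubgroupClass.coe_zpow]
    rw [e1, e2, map_mul, map_mul, map_zpow, map_zpow, hd1, one_zpow, one_zpow]
  · refine ⟨Nat.card D' * (Nat.card T - 1), hD'odd.mul ?_, ?_⟩
    · rcases B.S.prime.eq_two_or_odd' with h2 | h2
      · have := B.S.four_le; omega
      · exact h2
    · rw [MonoidHom.mul_apply, mul_pow, pow_mul, hμ₀odd, one_pow, one_mul, pow_mul', ← map_pow]
      rw [hηN (h ^ (Nat.card T - 1)) ?_, one_pow]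
      rw [← QuotientGroup.eq_one_iff, QuotientGroup.mk_pow]
      obtain ⟨i, hi⟩ := mem_zpowers_iff.1 (hgen (h : H ⧸ N))
      rw [← hi, ← zpow_natCast, ← zpow_mul, mul_comm, zpow_mul, zpow_natCast]
      rw [show (dH : H ⧸ N) ^ (Nat.card T - 1) = 1 by
        rw [← QuotientGroup.mk_pow, QuotientGroup.eq_one_iff]
        show ((dH ^ (Nat.card T - 1) : H) : G) ∈ W ⊔ T
        rw [SubmonoidClass.coe_pow, hde1]
        exact one_mem _, one_zpow]
  · rw [MonoidHom.mul_apply, hηN kH (mem_sup_left hk.2 : k ∈ W ⊔ T), mul_one]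
    exact hμ₀k

end Base

end H64.SEP
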