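import Cfsg.Agent.H64.SEP.Contra
import Cfsg.Agent.H56.Zassenhaus
import Cfsg.Agent.H66.FeitPrimePow
import Cfsg.Agent.H66.ZassAbelian

/-!
The minimal situation is a Zassenhaus group with kernel `T` (helper64).
-/

set_option autoImplicit false
set_option linter.style.haveILetI false
set_option linter.unusedSectionVars false

namespace H64.SEP

open Subgroup

universe u

variable {G : Type u} [Group G] [Finite G] {H W T : Subgroup G} {z : G}

namespace Base

variable (B : Base G H W T z)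
include B

theorem card_D (hK : Dz H z ⊓ W = ⊥) : Nat.card (Dz H z) = Nat.card T - 1 := by
  rw [← B.relIndex_K, hK, Subgroup.relIndex_bot_left]

theorem no_third (hK : Dz H z ⊓ W = ⊥) {g : G} (hg : g ∈ Dz H z) {c : G ⧸ H} (hca : c ≠ pa H)
    (hcb : c ≠ pb H z) (hc : g • c = c) : g = 1 := by
  haveI : Fact (Nat.card T - 1).Prime := ⟨B.S.prime⟩
  by_contra h1
  have hE : H82.SylowIn (Nat.card T - 1) (Dz H z) (Dz H z) :=
    ⟨le_rfl, IsPGroup.of_card (n := 1) (by rw [pow_one, B.card_D hK]), by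
      rw [Subgroup.relIndex_self]; exact B.S.prime.not_dvd_one⟩
  have hgen : ∀ y ∈ Dz H z, y • c = c := by
    intro y hy
    obtain ⟨i, hi⟩ := mem_zpowers_iff.1 (mem_zpowers_of_prime_card (B.card_D hK)
      (g := (⟨g, hg⟩ : Dz H z)) (g' := ⟨y, hy⟩) (fun e => h1 (congrArg Subtype.val e)))
    have hy' : g ^ i = y := congrArg Subtype.val hi
    rw [← hy']
    exact (zpow_mem (show g ∈ MulAction.stabilizer G c from hc) i)
  rcases B.e_no_third rfl hE hgen with h | h
  · exact hca h
  · exact hcb h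

theorem zassenhaus (hK : Dz H z ⊓ W = ⊥) : Cfsg.IsZassenhausGroup G (G ⧸ H) := by
  classical
  have hfaith : FaithfulSMul G (G ⧸ H) := by
    refine ⟨fun {g g'} h => ?_⟩
    suffices he : g'⁻¹ * g ∈ H.normalCore by
      rw [B.core, Subgroup.mem_bot] at he
      exact (inv_mul_eq_one.1 he).symm
    intro y
    have h1 := h ((y⁻¹ : G) : G ⧸ H)
    rw [← smul_pa H y⁻¹, ← mul_smul, ← mul_smul] at h1
    rw [← smul_pa_iff, show y * (g'⁻¹ * g) * y⁻¹ = (g' * y⁻¹)⁻¹ * (g * y⁻¹) by group, mul_smul,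
      h1, inv_smul_smul]
  refine ⟨hfaith,
    MulAction.is_two_pretransitive_iff.2 fun {a b c d} hab hcd => B.two_trans hab hcd, ?_, ?_, ?_⟩
  · intro g a b c hab hbc hac ha hb hc
    obtain ⟨x, hx1, hx2⟩ := B.two_trans hab B.pb_ne.symm
    have hgD : x * g * x⁻¹ ∈ Dz H z := by
      refine ⟨?_, ?_⟩
      · show (x * g * x⁻¹) • pa H = pa H
        rw [← hx1, mul_smul, mul_smul, inv_smul_smul, ha]
      · show (x * g * x⁻¹) • pb H z = pb H z
        rw [← hx2, mul_smul, mul_smul, inv_smul_smul, hb]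
    refine conj_eq_one_iff.1 (B.no_third hK hgD (c := x • c) (fun e => hac ?_) (fun e => hbc ?_) ?_)
    · exact MulAction.injective x (hx1.trans e.symm)
    · exact MulAction.injective x (hx2.trans e.symm)
    · rw [mul_smul, mul_smul, inv_smul_smul, hc]
  · haveI : Nontrivial (Dz H z) := by
      rw [← Finite.one_lt_card_iff_nontrivial, B.card_D hK]
      exact B.S.prime.one_lt
    obtain ⟨d, hd⟩ := exists_ne (1 : Dz H z)
    exact ⟨d, fun e => hd (Subtype.ext e), pa H, pb H z, B.pb_ne.symm, d.2.1, d.2.2⟩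
  · intro N hN hNt
    by_contra hcon
    push Not at hcon
    have hNH : ∀ n ∈ N, n ∈ H → n = 1 := fun n hn hnH => by
      have h : (⟨n, hn⟩ : N) ∈ MulAction.stabilizer N (pa H) := (smul_pa_iff H).2 hnH
      exact congrArg Subtype.val (Subgroup.mem_bot.1 ((hcon (pa H)).le h))
    have hinv : ∀ t ∈ T, t ≠ 1 → ∀ y ∈ N, t * y * t = y⁻¹ := by
      intro t ht ht1 y hy
      have htt := B.S.T_sq t ht
      have htinv := B.S.inv_self ht
      let φ : N → N := fun n => n⁻¹ * ⟨t * n * t, by
        have := hN.conj_mem n n.2 t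
        rwa [htinv] at this⟩
      have hinj : Function.Injective φ := by
        intro m n h
        have h' : (m : G)⁻¹ * (t * m * t) = (n : G)⁻¹ * (t * n * t) := congrArg Subtype.val h
        have hc : Commute ((n : G) * (m : G)⁻¹) t := by
          show (n : G) * (m : G)⁻¹ * t = t * ((n : G) * (m : G)⁻¹)
          calc (n : G) * (m : G)⁻¹ * t
              = n * ((m : G)⁻¹ * (t * m * t)) * (t * (m : G)⁻¹ * t) * t := by
                rw [show (n : G) * ((m : G)⁻¹ * (t * m * t)) * (t * (m : G)⁻¹ * t) * t =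
                  n * (m : G)⁻¹ * t * m * (t * t) * (m : G)⁻¹ * (t * t) by group, htt]
                group
            _ = n * ((n : G)⁻¹ * (t * n * t)) * (t * (m : G)⁻¹ * t) * t := by rw [h']
            _ = t * ((n : G) * (m : G)⁻¹) := by
                rw [show (n : G) * ((n : G)⁻¹ * (t * n * t)) * (t * (m : G)⁻¹ * t) * t =
                  t * n * (t * t) * (m : G)⁻¹ * (t * t) by group, htt]
                group
        have h1 := hNH _ (mul_mem n.2 (inv_mem m.2))
          (H67.se_centralizer_mem B.S.se (B.S.orderOf_two ht ht1) (B.S.T_le ht) hc)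
        exact (Subtype.ext (mul_inv_eq_one.1 h1)).symm
      obtain ⟨n, hn⟩ := Finite.surjective_of_injective hinj ⟨y, hy⟩
      have hn' : (n : G)⁻¹ * (t * n * t) = y := congrArg Subtype.val hn
      rw [← hn', mul_inv_rev, mul_inv_rev, mul_inv_rev, htinv, inv_inv,
        show t * ((n : G)⁻¹ * (t * n * t)) * t = t * (n : G)⁻¹ * t * n * (t * t) by group, htt]
      group
    obtain ⟨s, hs, t, ht, hs1, ht1, hst⟩ := B.exists_two_t
    have hst1 : s * t ≠ 1 := fun e => hst (by
      rw [eq_inv_of_mul_eq_one_left e, B.S.inv_self ht])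
    have hNbot : ∀ y ∈ N, y = 1 := fun y hy => hNH y hy (by
      refine H67.se_centralizer_mem B.S.se (B.S.orderOf_two (mul_mem hs ht) hst1)
        (B.S.T_le (mul_mem hs ht)) ?_
      show y * (s * t) = s * t * y
      have e1 := hinv t ht ht1 y hy
      have e2 := hinv s hs hs1 _ (inv_mem hy)
      rw [inv_inv, ← e1] at e2
      calc y * (s * t) = s * (t * y * t) * s * (s * t) := by rw [e2]
        _ = s * t * y * (t * ((s * s) * t)) := by group
        _ = s * t * y := by rw [B.S.T_sq s hs, one_mul, B.S.T_sq t ht, mul_one])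
    obtain ⟨m, hm⟩ := hNt.exists_smul_eq (pa H) (pb H z)
    have hm' : (m : G) • pa H = pb H z := hm
    rw [hNbot m m.2, one_smul] at hm'
    exact B.pb_ne hm'.symm

/-- The conclusion when `D ∩ W = 1`. -/
theorem good_of_K_bot (hK : Dz H z ⊓ W = ⊥) : Good H W T := by
  classical
  have hZ := B.zassenhaus hK
  haveI : Fintype (G ⧸ H) := Fintype.ofFinite _
  haveI : Fintype G := Fintype.ofFinite _
  set e := Nat.card T - 1 with he
  obtain ⟨t, ht, ht1⟩ := B.exists_t
  have ht2 := B.S.orderOf_two ht ht1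
  have he3 : Odd e := by
    rcases B.S.prime.eq_two_or_odd' with h | h
    · have := B.S.four_le
      rw [he] at *
      omega
    · exact h
  -- the orbit of `H` on the other points
  have horb : e * (H.index - 1) = Nat.card H := by
    have h := B.card_orbit le_rfl B.exists_H_smul
    rwa [inf_eq_right.2 B.D_le, B.card_D hK] at h
  have heven : Even (Nat.card H) := H65.even_card_of_mem (B.S.T_le ht) ht2
  have hn1 : Even (H.index - 1) := by
    rw [← horb, Nat.even_mul] at heven
    exact heven.resolve_left (Nat.not_even_iff_odd.2 he3)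
  have hodd : Odd (Nat.card (G ⧸ H)) := by
    rw [← Subgroup.index_eq_card]
    obtain ⟨k, hk⟩ := hn1
    exact ⟨k, by have := Nat.pos_of_ne_zero H.index_ne_zero_of_finite; omega⟩
  haveI := H56.zassenhaus_odd_simple hZ hodd
  obtain ⟨p, k, hp, hk, hpk⟩ := (isPrimePow_nat_iff _).1 (H66.Feit.isPrimePow_degree hZ)
  rw [← Nat.card_eq_fintype_card, ← Subgroup.index_eq_card] at hpk
  obtain rfl : p = 2 := by
    rw [← hpk] at hn1
    exact ((Nat.prime_dvd_prime_iff_eq Nat.prime_two hp).1
      (Nat.prime_two.dvd_of_dvd_pow (even_iff_two_dvd.1 hn1))).symm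
  rw [← hpk] at horb
  -- `W = 1`
  have hW : W = ⊥ := by
    haveI : (W.subgroupOf H).Normal := ⟨fun w hw h => B.S.W_conj h h.2 w hw⟩
    have hinj : Function.Injective
        ((QuotientGroup.mk' (W.subgroupOf H)).comp (Subgroup.inclusion B.D_le)) := by
      rw [← MonoidHom.ker_eq_bot_iff, eq_bot_iff]
      intro d hd
      have hdW : (d : G) ∈ W := (QuotientGroup.eq_one_iff (Subgroup.inclusion B.D_le d)).1 (MonoidHom.mem_ker.1 hd)
      exact Subgroup.mem_bot.2 (Subtype.ext
        (Subgroup.mem_bot.1 (hK ▸ (⟨d.2, hdW⟩ : (d : G) ∈ Dz H z ⊓ W))))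
    have h1 := Subgroup.card_dvd_of_injective _ hinj
    rw [← Subgroup.index_eq_card, B.card_D hK] at h1
    have h2 : e * Nat.card W ∣ e * 2 ^ k := by
      rw [horb, ← (W.subgroupOf H).card_mul_index,
        Nat.card_congr (Subgroup.subgroupOfEquivOfLe B.S.W_le).toEquiv, mul_comm e]
      exact Nat.mul_dvd_mul_left _ h1
    have h3 : Nat.card W ∣ 2 ^ k := Nat.dvd_of_mul_dvd_mul_left B.S.prime.pos h2
    exact Subgroup.card_eq_one.1 (Nat.Coprime.eq_one_of_dvd
      (Nat.Coprime.pow_right k (Nat.coprime_two_right.2 B.S.W_odd)) h3)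
  -- the kernel
  obtain ⟨U, hUle, hU1, hnorm, hreg, hcardΩ, -, hC, -, -, -, -⟩ :=
    H66.Feit.kernel_props hZ B.pb_ne.symm
  have hstab : ∀ h : G, h ∈ H ↔ h ∈ MulAction.stabilizer G (pa H) := fun h => (smul_pa_iff H).symm
  have hUn : ∀ h ∈ MulAction.stabilizer G (pa H), ∀ u ∈ U, h * u * h⁻¹ ∈ U := fun h hh u hu =>
    (Subgroup.mem_normalizer_iff.1 (hnorm.symm ▸ hh) u).1 hu
  have hUcard : Nat.card U = 2 ^ k := by
    rw [← Subgroup.index_eq_card] at hcardΩ
    omega
  have hU2 : IsPGroup 2 U := IsPGroup.of_card hUcard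
  have hUH : U ≤ H := fun u hu => (hstab u).2 (hUle hu)
  have hUab : ∀ u ∈ U, ∀ v ∈ U, u * v = v * u := B.S.two_comm U hUH hU2
  obtain ⟨v, hv, hctx⟩ := H66.ZS.exists_ctx_of_ne_bot hZ B.pb_ne.symm hUle hUn
    (fun c d hc hd => hreg c hc d hd) hU2 hU1
  have hq : Nat.card U = Nat.card T := by
    have h := H66.ZS.ab_card hctx hUab
    have e1 : H66.R1.twoPt G (pa H) v = Dz H z := by
      show MulAction.stabilizer G (pa H) ⊓ MulAction.stabilizer G (v • pa H) = Dz H z
      rw [hv]
    rw [e1, B.card_D hK] at h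
    have := B.S.four_le
    omega
  have hTU : T ≤ U := by
    haveI : (U.subgroupOf H).Normal := ⟨fun u hu h => hUn h ((hstab h).1 h.2) u hu⟩
    intro s hs
    have hidx : (U.subgroupOf H).index = e := by
      have h := (U.subgroupOf H).card_mul_index
      rw [Nat.card_congr (Subgroup.subgroupOfEquivOfLe hUH).toEquiv, hUcard, ← horb, mul_comm e] at h
      exact Nat.eq_of_mul_eq_mul_left (pow_pos two_pos k) h
    by_contra hsU
    have h1 : orderOf ((⟨s, B.S.T_le hs⟩ : H) : H ⧸ U.subgroupOf H) ∣ e := by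
      rw [← hidx, Subgroup.index_eq_card]
      exact orderOf_dvd_natCard _
    have h2 : orderOf ((⟨s, B.S.T_le hs⟩ : H) : H ⧸ U.subgroupOf H) ∣ 2 := by
      refine orderOf_dvd_of_pow_eq_one ?_
      rw [← QuotientGroup.mk_pow, pow_two,
        show (⟨s, B.S.T_le hs⟩ : H) * ⟨s, B.S.T_le hs⟩ = 1 from Subtype.ext (B.S.T_sq s hs),
        QuotientGroup.mk_one]
    have h3 := Nat.eq_one_of_dvd_coprimes (Nat.coprime_two_right.2 he3) h1 h2
    exact hsU ((QuotientGroup.eq_one_iff (⟨s, B.S.T_le hs⟩ : H)).1 (orderOf_eq_one_iff.1 h3))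
  have hTeq : T = U := Subgroup.eq_of_le_of_card_ge hTU hq.le
  refine ⟨hW ▸ bot_le, fun h hh htr => ?_⟩
  refine mem_sup_right (hTeq ▸ ?_)
  refine hC t (hTU ht) ht1 (Subgroup.mem_centralizer_singleton_iff.2 ?_)
  have h1 : h * t * h⁻¹ * t ∈ (⊥ : Subgroup G) := hW ▸ htr t ht
  rw [Subgroup.mem_bot] at h1
  rw [← mul_inv_eq_iff_eq_mul, eq_inv_of_mul_eq_one_left h1, B.S.inv_self ht]

end Base

end H64.SEP
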